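import Cfsg.Agent.Chev.TwistedE6
import Cfsg.Agent.Chev.TwoGenerated
import Cfsg.Agent.Chev.RootMapData
import Cfsg.Agent.Chev.FieldFix

/-!
Elements of order five of `²E₆(2)`: the square-graph automorphism over a field of characteristic two.
-/

set_option autoImplicit false

namespace CfsgLib.Chev.E6Five

open Cfsg.Lie Matrix Tab E6Tw

/-- The image of a root under the graph automorphism. -/
def piN (r : ℕ) : ℕ := (mapAt graphMapE6 r).1

/-- The graph map has odd coefficients and exponent one, and its orbits consist of commuting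
roots. -/
def chkOrbit : Bool :=
  allBelow (fun r => decide ((mapAt graphMapE6 r).2.1 % 2 = 1) && Nat.beq (mapAt graphMapE6 r).2.2 1
    && Nat.blt (piN r) 72 && Nat.beq (piN (piN r)) r &&
    E6Data.tab.chkCommute 2 r (piN r)) 72

theorem chkOrbit_ok : chkOrbit = true := by decide +kernel

theorem orbit_spec {r : ℕ} (hr : r < 72) :
    ((mapAt graphMapE6 r).2.1 % 2 = 1 ∧ (mapAt graphMapE6 r).2.2 = 1) ∧ piN r < 72 ∧
      piN (piN r) = r ∧ E6Data.tab.chkCommute 2 r (piN r) = true := by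
  have h := chkOrbit_ok
  simp only [chkOrbit, allBelow_iff, Bool.and_eq_true, decide_eq_true_eq, Nat.beq_eq, Nat.blt_eq] at h
  obtain ⟨⟨⟨⟨h1, h2⟩, h3⟩, h4⟩, h5⟩ := h r hr
  exact ⟨⟨h1, h2⟩, h3, h4, h5⟩

theorem odd_cast {F : Type*} [Field F] [CharP F 2] {c : ℤ} (h : c % 2 = 1) : (c : F) = 1 := by
  have e : c = 2 * (c / 2) + 1 := by omega
  rw [e, Int.cast_add, Int.cast_mul, Int.cast_ofNat, CharTwo.two_eq_zero, zero_mul, zero_add,
    Int.cast_one]

section NW

variable {D : ChevalleyDatum} {T : Tab D} (G : T.Good) {F : Type*} [Field F] [CharP F 2]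
include G

theorem sgn_cast {i s : ℕ} (hi : i < D.rank) (hs : s < D.nroots) :
    ((T.sgn i s : ℤ) : F) = 1 := by
  rcases (G.full.reflT_spec hi hs).2.2.2.2.2.2.1 with e | e <;>
    simp [e, CharTwo.neg_eq]

/-- In characteristic two the representatives of the Weyl group permute the root elements. -/
theorem nw_conj : ∀ (L : List (Fin D.rank)) {s : ℕ}, s < D.nroots → ∀ t : F,
    G.full.nw F L * G.full.x s t * (G.full.nw F L)⁻¹ =
      G.full.x (T.pwN (L.map Fin.val) s) t := by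
  intro L
  induction L with
  | nil => intro s _ t; simp [Full.nw, Tab.pwN]
  | cons i L ih =>
    intro s hs t
    have hk : T.pwN (L.map Fin.val) s < D.nroots := G.pwN_lt (by simp) hs
    rw [G.nw_cons, show G.full.ns F i * G.full.nw F L * G.full.x s t *
        (G.full.ns F i * G.full.nw F L)⁻¹ = G.full.ns F i *
          (G.full.nw F L * G.full.x s t * (G.full.nw F L)⁻¹) * (G.full.ns F i)⁻¹ by group,
      ih hs, G.full.ns_conj i.isLt hk, sgn_cast G i.isLt hk, one_mul]
    rfl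

theorem ns_three (i : Fin D.rank) : G.full.ns F i =
    G.full.x (D.simple i) 1 * G.full.x (negR D (D.simple i)) 1 * G.full.x (D.simple i) 1 := by
  rw [Full.ns, Full.nr]
  simp [CharTwo.neg_eq]

end NW

/-- The graph automorphism acts by squaring the parameters. -/
structure Sq {F : Type*} [Field F] (Φ : good_E6.Graph F) : Prop where
  hπ : ∀ r, (Φ.π r).val = piN r.val
  hρ : ∀ i, (Φ.ρ i).val = E6Tw.rho.getD i.val 0
  hf : ∀ r t, Φ.f r t = t ^ 2

variable {F : Type*} [Field F] [CharP F 2]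

theorem sq_of_ctx [Fintype F] (C : Ctx F 2) : Sq C.Φ :=
  ⟨C.hπ, C.hρ, fun r t => by
    obtain ⟨h1, h2⟩ := (orbit_spec r.isLt).1
    rw [C.hf, C.hφ, h2, odd_cast h1, one_mul, pow_one]⟩

theorem exists_sq [Fintype F] : ∃ Φ : good_E6.Graph F, Sq Φ := by
  obtain ⟨Φ, h1, h2, h3⟩ := good_E6.exists_graph (F := F) ⟨_, wits_E6⟩ (p := 0) (by simp)
    (fun h => absurd h (lt_irrefl 0)) chkGraphE6 chkRho (frobenius F 2)
  refine ⟨Φ, h1, h2, fun r t => ?_⟩
  obtain ⟨e1, e2⟩ := (orbit_spec r.isLt).1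
  rw [h3, frobenius_def, e2, odd_cast e1, one_mul, pow_one]

/-- The root element of an orbit of roots. -/
noncomputable def pairEl (r : ℕ) (t : F) : GL chevE6.Idx F :=
  if piN r = r then good_E6.full.x r t
  else good_E6.full.x r t * good_E6.full.x (piN r) (t ^ 2)

namespace Sq

variable {Φ : good_E6.Graph F} (S : Sq Φ)
include S

theorem A_x {r : ℕ} (hr : r < 72) (t : F) :
    Φ.A (good_E6.full.x r t) = good_E6.full.x (piN r) (t ^ 2) := by
  have := Φ.A_x ⟨r, hr⟩ t
  rwa [S.hf, S.hπ] at this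

theorem A_ns (i : Fin chevE6.rank) :
    Φ.A (good_E6.full.ns F i) = good_E6.full.ns F (Φ.ρ i) := Φ.A_ns i

theorem pairEl_fix {r : ℕ} (hr : r < 72) {t : F} (ht : (t ^ 2) ^ 2 = t)
    (h1 : piN r = r → t ^ 2 = t) : pairEl r t ∈ Φ.Fix := by
  obtain ⟨-, hlt, hinv, hcom⟩ := orbit_spec hr
  have hg : ∀ s v, good_E6.full.x s v ∈ chevE6.group F := fun s v => good_E6.x_mem_group _ _
  unfold pairEl
  split_ifs with h
  · exact ⟨hg _ _, by rw [S.A_x hr, h, h1 h]⟩
  · refine ⟨mul_mem (hg _ _) (hg _ _), ?_⟩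
    rw [Φ.A_mul (hg _ _) (hg _ _), S.A_x hr, S.A_x hlt, hinv, ht]
    exact ((good_E6.x_commute (p := 2) (CharP.cast_eq_zero F 2) hcom t (t ^ 2)).eq).symm

end Sq

end CfsgLib.Chev.E6Five
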