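import Cfsg.Agent.Chev.E6TwFive.Base
import Cfsg.Agent.Chev.OrdE6
import Cfsg.Agent.Chev.CoxeterW

/-!
The stabiliser in the Weyl group of `E₆` of the character of an element of order five.
-/

set_option autoImplicit false

namespace CfsgLib.Chev.E6Five

open Cfsg.Lie Matrix Tab

/-- The words of the representatives of one level of the factorisation. -/
def levelWords (par : List (ℕ × ℕ)) : List (List ℕ) :=
  par.foldl (fun W p => W ++ [p.1 :: W.getD p.2 []]) [[]]

section Factor

variable {D : ChevalleyDatum} {T : Tab D} (G : T.Good)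
include G

theorem levelWords_reach {J : List ℕ} (k : Fin D.rank) :
    ∀ (par : List (ℕ × ℕ)) (O : List (List ℤ)) (W : List (List ℕ)), W.length = O.length →
      chkPar D J O.length par = true →
      (∀ n, n < O.length → ∃ L : List (Fin D.rank), L.map Fin.val = W.getD n [] ∧
        G.full.pw L ∈ G.full.WJ J ∧ G.full.wl k.val (G.full.pw L) = O.getD n []) →
      ∀ μ ∈ par.foldl (fun O p => O ++ [T.refW p.1 (O.getD p.2 [])]) O,
        ∃ L : List (Fin D.rank), L.map Fin.val ∈ par.foldl (fun W p => W ++ [p.1 :: W.getD p.2 []]) W ∧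
          G.full.pw L ∈ G.full.WJ J ∧ G.full.wl k.val (G.full.pw L) = μ := by
  intro par
  induction par with
  | nil =>
    intro O W hlen _ hO μ hμ
    obtain ⟨n, hn, rfl⟩ := List.mem_iff_getElem.mp hμ
    obtain ⟨L, e1, e2, e3⟩ := hO n hn
    refine ⟨L, ?_, e2, e3.trans ?_⟩
    · rw [List.foldl_nil, e1, List.getD_eq_getElem _ _ (hlen ▸ hn)]
      exact List.getElem_mem _
    · exact List.getD_eq_getElem O [] hn
  | cons p ps ih =>
    intro O W hlen hchk hO
    simp only [chkPar, Bool.and_eq_true, Nat.blt_eq, List.contains_iff_mem] at hchk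
    obtain ⟨⟨⟨h1, h2⟩, h3⟩, h4⟩ := hchk
    rw [List.foldl_cons, List.foldl_cons]
    refine ih _ _ (by simp [hlen]) (by simpa using h4) fun n hn => ?_
    rw [List.length_append, List.length_singleton] at hn
    rcases Nat.lt_or_ge n O.length with hn' | hn'
    · obtain ⟨L, e1, e2, e3⟩ := hO n hn'
      refine ⟨L, ?_, e2, ?_⟩
      · rw [e1, List.getD_append _ _ _ _ (hlen ▸ hn')]
      · rw [e3, List.getD_append _ _ _ _ hn']
    · obtain rfl : n = O.length := by omega
      obtain ⟨L, e1, e2, e3⟩ := hO p.2 h3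
      refine ⟨⟨p.1, h1⟩ :: L, ?_, ?_, ?_⟩
      · rw [List.getD_append_right _ _ _ _ (by omega), hlen, Nat.sub_self, List.map_cons, e1]
        rfl
      · rw [G.pw_cons]; exact mul_mem (G.refl_mem h2) e2
      · rw [List.getD_append_right _ _ _ _ (le_refl _), Nat.sub_self, G.pw_cons,
          G.wl_mul_refl k e2, e3]
        rfl

/-- The factorisation at one level, with explicit representatives. -/
theorem exists_factor {J : List ℕ} {k : ℕ} {par : List (ℕ × ℕ)} {exps : List ℕ}
    (hchk : T.chkLevel J k par exps = true) {σ : Equiv.Perm (Fin D.nroots)}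
    (hσ : σ ∈ G.full.WJ J) :
    ∃ L : List (Fin D.rank), L.map Fin.val ∈ levelWords par ∧
      (G.full.pw L)⁻¹ * σ ∈ G.full.WJ (J.filter fun j => !(Nat.beq j k)) := by
  simp only [chkLevel, Bool.and_eq_true, Nat.blt_eq, List.contains_iff_mem, decide_eq_true_eq,
    List.all_eq_true] at hchk
  obtain ⟨⟨⟨⟨⟨hk, -⟩, hpar⟩, -⟩, hclosed⟩, -⟩ := hchk
  have hkk : G.full.wl k 1 = fundW D k :=
    (G.wl_eq_fund_iff (J := J) ⟨k, hk⟩ (one_mem _)).mpr (one_mem _)
  have hreach := levelWords_reach G (J := J) ⟨k, hk⟩ par [fundW D k] [[]] rfl hpar fun n hn => by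
    obtain rfl : n = 0 := by simpa using hn
    exact ⟨[], rfl, one_mem _, hkk⟩
  have hμ : G.full.wl k σ ∈ T.orbitW k par := by
    obtain ⟨L, hL, rfl⟩ := G.exists_word_WJ hσ
    clear hσ
    induction L with
    | nil =>
      show G.full.wl k 1 ∈ _
      rw [hkk, orbitW]
      have : ∀ (ps : List (ℕ × ℕ)) (O' : List (List ℤ)), fundW D k ∈ O' → fundW D k ∈
          ps.foldl (fun O p => O ++ [T.refW p.1 (O.getD p.2 [])]) O' := by
        intro ps
        induction ps with
        | nil => intro O' h; exact h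
        | cons p ps ih => intro O' h; exact ih _ (List.mem_append_left _ h)
      exact this par _ (List.mem_singleton_self _)
    | cons i L ih =>
      have hmem : G.full.pw L ∈ G.full.WJ J := list_prod_mem fun σ hσ => by
        obtain ⟨a, ha, rfl⟩ := List.mem_map.mp hσ
        exact G.refl_mem (hL a (List.mem_cons_of_mem _ ha))
      rw [G.pw_cons, G.wl_mul_refl ⟨k, hk⟩ hmem]
      exact hclosed _ (ih fun a ha => hL a (List.mem_cons_of_mem _ ha)) _
        (hL i (List.mem_cons_self ..))
  obtain ⟨L, hL, hLJ, hwl⟩ := hreach _ hμ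
  refine ⟨L, hL, (G.wl_eq_fund_iff (J := J) ⟨k, hk⟩ (mul_mem (inv_mem hLJ) hσ)).mp ?_⟩
  refine List.map_congr_left fun i hi => ?_
  rw [List.mem_range] at hi
  simp only [hi, dif_pos]
  set t := G.full.pw L
  rw [show (t⁻¹ * σ).symm (G.full.simp' ⟨i, hi⟩) = σ.symm (t (G.full.simp' ⟨i, hi⟩)) from rfl,
    G.cor_symm_eq_dot hσ ⟨k, hk⟩, ← hwl, ← G.cor_symm_eq_dot hLJ ⟨k, hk⟩,
    Equiv.symm_apply_apply, G.cor_simple]
  rcases eq_or_ne i k with rfl | hik
  · simp
  · simp [Tab.beq_false hik, Fin.ext_iff, hik.symm]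

theorem wordT_append (A B : List ℕ) (s : ℕ) :
    T.wordT (A ++ B) s = T.wordT A (T.wordT B s) := by
  induction A with
  | nil => rfl
  | cons i A ih => simp [Tab.wordT, ih]

/-- A chain of levels factorises the parabolic subgroup. -/
theorem exists_chain : ∀ (ls : List (ℕ × List (ℕ × ℕ) × List ℕ)) (J : List ℕ),
    T.chkChain J ls = true → ∀ σ ∈ G.full.WJ J,
    ∃ Ls : List (List (Fin D.rank)), G.full.pw Ls.flatten = σ ∧
      List.Forall₂ (fun (L : List (Fin D.rank)) l => L.map Fin.val ∈ levelWords l.2.1) Ls ls := by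
  intro ls
  induction ls with
  | nil =>
    intro J h σ hσ
    simp only [chkChain, List.isEmpty_iff] at h
    subst h
    obtain ⟨L, hL, rfl⟩ := G.exists_word_WJ hσ
    rcases L with _ | ⟨a, L⟩
    · exact ⟨[], rfl, List.Forall₂.nil⟩
    · exact absurd (hL a (List.mem_cons_self ..)) (by simp)
  | cons l ls ih =>
    intro J h σ hσ
    simp only [chkChain, Bool.and_eq_true] at h
    obtain ⟨L, hL, hmem⟩ := exists_factor G h.1 hσ
    obtain ⟨Ls, e, hLs⟩ := ih _ h.2 _ hmem
    exact ⟨L :: Ls, by rw [List.flatten_cons, G.pw_append, e, mul_inv_cancel_left],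
      List.Forall₂.cons hL hLs⟩

end Factor

/-- The exponent modulo five of the character of a root at the element of the torus. -/
def wt (s : ℕ) : ℕ := ((E6Data.tab.cart 0 s + 2 * E6Data.tab.cart 5 s) % 5).toNat

/-- The words of the roots generating the stabiliser. -/
def genWord : ℕ → List ℕ
  | 0 => [1]
  | 1 => [3]
  | _ => [1, 3, 4, 5, 2, 3, 4, 1, 3, 0] ++ 2 :: [1, 3, 4, 5, 2, 3, 4, 1, 3, 0].reverse

/-- The elements of the stabiliser as products of the generators. -/
def stabToks : List (List ℕ) :=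
  [[], [0], [1], [2], [0, 1], [0, 2], [1, 0], [1, 2], [2, 0], [0, 1, 0], [0, 1, 2], [0, 2, 0],
    [1, 0, 2], [1, 2, 0], [2, 0, 1], [0, 1, 0, 2], [0, 1, 2, 0], [0, 2, 0, 1], [1, 0, 2, 0],
    [1, 2, 0, 1], [0, 1, 0, 2, 0], [0, 1, 2, 0, 1], [1, 0, 2, 0, 1], [0, 1, 0, 2, 0, 1]]

/-- The words of the elements of the stabiliser. -/
def stabWord (M : List ℕ) : List ℕ := M.flatMap genWord

/-- The products of two levels. -/
def halfA : List (List ℕ) :=
  match E6Data.levels with
  | l1 :: l2 :: _ => (levelWords l1.2.1).flatMap fun a => (levelWords l2.2.1).map fun b => a ++ b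
  | _ => []

/-- The products of the remaining levels. -/
def halfB : List (List ℕ) :=
  match E6Data.levels with
  | [_, _, l3, l4, l5, l6] => (levelWords l3.2.1).flatMap fun a => (levelWords l4.2.1).flatMap
      fun b => (levelWords l5.2.1).flatMap fun c => (levelWords l6.2.1).map fun d =>
        a ++ (b ++ (c ++ d))
  | _ => []

/-- The character on the images of the fundamental roots. -/
def keyOf (L : List ℕ) : List ℕ :=
  (List.range 6).map fun j => wt (E6Data.tab.wordT L (chevE6.simple j))

/-- The elements fixing the character are the listed ones. -/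
def chkStab : Bool :=
  let KA := halfA.map fun A => (A, keyOf A)
  let KB := halfB.map fun B => (B, keyOf B.reverse)
  KB.all fun b => KA.all fun a => !(decide (a.2 = b.2)) ||
    stabToks.any fun M => allBelow (fun s =>
      Nat.beq (E6Data.tab.wordT (a.1 ++ b.1) s) (E6Data.tab.wordT (stabWord M) s)) 72

theorem chkStab_ok : chkStab = true := by decide +kernel

theorem stabWord_lt : ∀ M ∈ stabToks, ∀ i ∈ stabWord M, i < 6 := by decide

/-- The words of the elements of the stabiliser in the fundamental reflections. -/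
def stabList (M : List ℕ) : List (Fin chevE6.rank) :=
  (stabWord M).map fun i => (Fin.ofNat 6 i : Fin 6)

theorem stabList_val {M : List ℕ} (hM : M ∈ stabToks) :
    (stabList M).map Fin.val = stabWord M := by
  have key : ∀ L : List ℕ, (∀ i ∈ L, i < 6) →
      (L.map fun i => ((Fin.ofNat 6 i : Fin 6) : Fin chevE6.rank)).map Fin.val = L := by
    intro L hL
    induction L with
    | nil => rfl
    | cons a L ih =>
      rw [List.map_cons, List.map_cons, ih fun i hi => hL i (List.mem_cons_of_mem _ hi)]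
      congr 1
      exact Nat.mod_eq_of_lt (hL a (List.mem_cons_self ..))
  exact key _ (stabWord_lt M hM)

theorem stab {σ : Equiv.Perm (Fin chevE6.nroots)}
    (hσ : σ ∈ good_E6.full.WJ (List.range chevE6.rank))
    (h : ∀ s, wt (σ s).val = wt s.val) :
    ∃ M ∈ stabToks, σ = good_E6.full.pw (stabList M) := by
  obtain ⟨Ls, e, hLs⟩ := exists_chain good_E6 E6Data.levels (List.range 6) E6Data.levels_ok σ hσ
  simp only [E6Data.levels] at hLs
  obtain ⟨L1, R1, h1, g1, rfl⟩ := List.forall₂_cons_right_iff.mp hLs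
  obtain ⟨L2, R2, h2, g2, rfl⟩ := List.forall₂_cons_right_iff.mp g1
  obtain ⟨L3, R3, h3, g3, rfl⟩ := List.forall₂_cons_right_iff.mp g2
  obtain ⟨L4, R4, h4, g4, rfl⟩ := List.forall₂_cons_right_iff.mp g3
  obtain ⟨L5, R5, h5, g5, rfl⟩ := List.forall₂_cons_right_iff.mp g4
  obtain ⟨L6, R6, h6, g6, rfl⟩ := List.forall₂_cons_right_iff.mp g5
  obtain rfl := List.forall₂_nil_right_iff.mp g6
  simp only [List.flatten_cons, List.flatten_nil, List.append_nil] at e
  have hA : (L1 ++ L2).map Fin.val ∈ halfA := by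
    simp only [halfA, E6Data.levels, List.mem_flatMap, List.mem_map, List.map_append]
    exact ⟨_, h1, _, h2, rfl⟩
  have hB : (L3 ++ (L4 ++ (L5 ++ L6))).map Fin.val ∈ halfB := by
    simp only [halfB, E6Data.levels, List.mem_flatMap, List.mem_map, List.map_append]
    exact ⟨_, h3, _, h4, _, h5, _, h6, rfl⟩
  set A := L1 ++ L2 with hAdef
  set B := L3 ++ (L4 ++ (L5 ++ L6)) with hBdef
  have eAB : good_E6.full.pw A * good_E6.full.pw B = σ := by
    rw [← good_E6.pw_append, hAdef, hBdef, List.append_assoc]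
    exact e
  have hrev : good_E6.full.pw B.reverse = (good_E6.full.pw B)⁻¹ := by
    clear_value B
    clear * -
    induction B with
    | nil => simp [Full.pw]
    | cons i B ih =>
      rw [List.reverse_cons, good_E6.pw_append, ih,
        show good_E6.full.pw [i] = good_E6.full.refl i by simp [Full.pw], good_E6.pw_cons,
        _root_.mul_inv_rev, inv_eq_of_mul_eq_one_right (good_E6.refl_mul_self i)]
  have hkey : keyOf (A.map Fin.val) = keyOf (B.map Fin.val).reverse := by
    refine List.map_congr_left fun j hj => ?_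
    rw [List.mem_range] at hj
    set a : Fin chevE6.nroots := good_E6.full.simp' ⟨j, hj⟩
    have hs := h ((good_E6.full.pw B)⁻¹ a)
    rw [← eAB, Equiv.Perm.mul_apply, Equiv.Perm.coe_inv, Equiv.apply_symm_apply] at hs
    rw [show chevE6.simple j = a.val from rfl, ← good_E6.pw_apply, ← List.map_reverse,
      ← good_E6.pw_apply, hrev]
    exact hs
  have hchk := chkStab_ok
  simp only [chkStab, List.all_eq_true, List.mem_map, forall_exists_index, and_imp,
    forall_apply_eq_imp_iff₂, Bool.or_eq_true, Bool.not_eq_true', decide_eq_false_iff_not,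
    List.any_eq_true, allBelow_iff, Nat.beq_eq] at hchk
  rcases hchk _ hB _ hA with hne | ⟨M, hM, heq⟩
  · exact absurd hkey hne
  · refine ⟨M, hM, Equiv.ext fun s => Fin.ext ?_⟩
    rw [← eAB, ← good_E6.pw_append, good_E6.pw_apply, good_E6.pw_apply, List.map_append,
      stabList_val hM]
    exact heq s.val s.isLt

end CfsgLib.Chev.E6Five
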