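import Cfsg.Agent.Chev.E6TwFive.Split
import Cfsg.Agent.Chev.E6TwFive.Weyl
import Cfsg.Agent.Chev.CentTorus

/-!
The fixed points of a twisted Frobenius map in the centraliser of a torus element of order five.
-/

set_option autoImplicit false

namespace CfsgLib.Chev.E6Five

open Cfsg.Lie Matrix Tab
open scoped MatrixGroups

section Stab

variable {F : Type*} [Field F] [CharP F 2]

theorem ns_inv (i : Fin chevE6.rank) : (good_E6.full.ns F i)⁻¹ = good_E6.full.ns F i := by
  refine inv_eq_of_mul_eq_one_right ?_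
  rw [good_E6.full.ns_sq i.isLt, CharTwo.neg_eq, good_E6.full.hr_simple_one i.isLt]

theorem nw_reverse (L : List (Fin chevE6.rank)) :
    good_E6.full.nw F L.reverse = (good_E6.full.nw F L)⁻¹ := by
  induction L with
  | nil => simp [Full.nw]
  | cons i L ih =>
    rw [List.reverse_cons, good_E6.nw_append, good_E6.nw_cons, good_E6.nw_cons, ih,
      _root_.mul_inv_rev, ns_inv, show good_E6.full.nw F [] = 1 from rfl, mul_one]

/-- A number as a fundamental root. -/
def toI (i : ℕ) : Fin chevE6.rank := (Fin.ofNat 6 i : Fin 6)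

theorem x_mem_L2 {s : ℕ} (hs : s ∈ A3) : good_E6.full.x s (1 : F) ∈ L2 F :=
  Subgroup.subset_closure ⟨s, hs, rfl⟩

theorem genWord_mem : ∀ a, good_E6.full.nw F ((genWord a).map toI) ∈ L2 F := by
  obtain ⟨-, -, ⟨a1, a2⟩, ⟨b1, b2⟩, c1, c2⟩ := simple_vals
  have one : ∀ i : Fin chevE6.rank, good_E6.full.nw F [i] = good_E6.full.ns F i := fun i => by
    simp [Full.nw]
  have h : ∀ n, good_E6.full.nw F ((genWord (n + 2)).map toI) ∈ L2 F := by
    intro n
    set w := thetaW.map toI with hw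
    have hval : w.map Fin.val = thetaW := rfl
    have e : (genWord (n + 2)).map toI = w ++ [toI 2] ++ w.reverse := rfl
    rw [e, good_E6.nw_append, good_E6.nw_append, nw_reverse, one, ns_three good_E6 (toI 2),
      show chevE6.simple (toI 2 : ℕ) = 42 from c1,
      show negR chevE6 42 = 29 from by rw [← c1]; exact c2]
    have hc : ∀ {r s : ℕ}, r < 72 → E6Data.tab.pwN thetaW r = s → ∀ v : F,
        good_E6.full.nw F w * good_E6.full.x r v * (good_E6.full.nw F w)⁻¹ =
          good_E6.full.x s v := fun hr e v => by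
      rw [nw_conj good_E6 w hr v, hval, e]
    rw [show ∀ W a b : GL chevE6.Idx F, W * (a * b * a) * W⁻¹ =
      (W * a * W⁻¹) * (W * b * W⁻¹) * (W * a * W⁻¹) from fun W a b => by group,
      hc (by norm_num) thetaW_val.1, hc (by norm_num) thetaW_val.2]
    exact mul_mem (mul_mem (x_mem_L2 (by decide)) (x_mem_L2 (by decide))) (x_mem_L2 (by decide))
  intro a
  match a with
  | 0 =>
    rw [show (genWord 0).map toI = [toI 1] from rfl, one, ns_three good_E6 (toI 1),
      show chevE6.simple (toI 1 : ℕ) = 46 from a1,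
      show negR chevE6 46 = 25 from by rw [← a1]; exact a2]
    exact mul_mem (mul_mem (x_mem_L2 (by decide)) (x_mem_L2 (by decide))) (x_mem_L2 (by decide))
  | 1 =>
    rw [show (genWord 1).map toI = [toI 3] from rfl, one, ns_three good_E6 (toI 3),
      show chevE6.simple (toI 3 : ℕ) = 39 from b1,
      show negR chevE6 39 = 32 from by rw [← b1]; exact b2]
    exact mul_mem (mul_mem (x_mem_L2 (by decide)) (x_mem_L2 (by decide))) (x_mem_L2 (by decide))
  | n + 2 => exact h n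

theorem stabList_mem (M : List ℕ) : good_E6.full.nw F (stabList M) ∈ L2 F := by
  induction M with
  | nil => exact one_mem _
  | cons a M ih =>
    have e : stabList (a :: M) = (genWord a).map toI ++ stabList M := by
      simp only [stabList, stabWord, List.flatMap_cons]
      exact List.map_append ..
    rw [e, good_E6.nw_append]
    exact mul_mem (genWord_mem a) ih

theorem segProd_mem_L2 {S : Set ℕ} (hS : ∀ s ∈ S, s ∈ A3) {f : ℕ → F}
    (hf : ∀ s ∈ S, f s = 0 ∨ f s = 1) : ∀ m k, good_E6.segProd S f k m ∈ L2 F := by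
  intro m
  induction m with
  | zero => intro k; exact one_mem _
  | succ m ih =>
    intro k
    refine mul_mem ?_ (ih _)
    by_cases hk : k ∈ S
    · rw [if_pos hk]
      rcases hf k hk with e | e <;> rw [e]
      · rw [good_E6.full.x_zero]; exact one_mem _
      · exact x_mem_L2 (hS k hk)
    · rw [if_neg hk]; exact one_mem _

end Stab

section Twist

variable {E : Type*} [Field E] [CharP E 2] {Φ : good_E6.Graph E}

/-- The twisted Frobenius map. -/
noncomputable def tw (Φ : good_E6.Graph E) (z : GL chevE6.Idx E) : GL chevE6.Idx E :=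
  good_E6.full.ns E (i0 : ℕ) * Φ.A z * (good_E6.full.ns E (i0 : ℕ))⁻¹

/-- A coordinate of the parameters of the torus. -/
def co (d : Fin chevE6.rank → Eˣ) (i : Fin 6) : Eˣ := d i

omit [CharP E 2] in
theorem co_ext {a b : Fin chevE6.rank → Eˣ} (h : ∀ i : Fin 6, co a i = co b i) : a = b := funext h

omit [CharP E 2] in
theorem co_mul (a b : Fin chevE6.rank → Eˣ) (i : Fin 6) : co (a * b) i = co a i * co b i := rfl

omit [CharP E 2] in
theorem co_pow (a : Fin chevE6.rank → Eˣ) (n : ℕ) (i : Fin 6) : co (a ^ n) i = co a i ^ n := rfl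

/-- The twisted Frobenius map on the parameters of the torus. -/
def twc (d : Fin chevE6.rank → Eˣ) : Fin chevE6.rank → Eˣ := fun i =>
  (![((co d 5) ^ 2)⁻¹ * co d 4 ^ 2, co d 1 ^ 2, co d 4 ^ 2,
    co d 3 ^ 2, co d 2 ^ 2, co d 0 ^ 2] : Fin 6 → Eˣ) i

omit [CharP E 2] in
theorem co_twc (d : Fin chevE6.rank → Eˣ) (i : Fin 6) : co (twc d) i =
    (![((co d 5) ^ 2)⁻¹ * co d 4 ^ 2, co d 1 ^ 2, co d 4 ^ 2,
      co d 3 ^ 2, co d 2 ^ 2, co d 0 ^ 2] : Fin 6 → Eˣ) i := rfl

omit [CharP E 2] in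
theorem tw_mul {a b : GL chevE6.Idx E} (ha : a ∈ chevE6.group E) (hb : b ∈ chevE6.group E) :
    tw Φ (a * b) = tw Φ a * tw Φ b := by
  rw [tw, Φ.A_mul ha hb, tw, tw]; group

omit [CharP E 2] in
theorem twc_pow (d : Fin chevE6.rank → Eˣ) (n : ℕ) : twc (d ^ n) = twc d ^ n := by
  refine co_ext fun i => ?_
  rw [co_pow, co_twc, co_twc]
  simp only [co_pow]
  fin_cases i <;> simp [mul_pow, inv_pow, ← pow_mul, Nat.mul_comm]

variable (S : Sq Φ)
include S

theorem tw_x {s : ℕ} (hs : s ∈ A3) (v : E) :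
    tw Φ (good_E6.full.x s v) = good_E6.full.x s (v ^ 2) := by
  obtain ⟨hlt, hpi, hr, -⟩ := A3_spec hs
  rw [tw, S.A_x hlt, hpi, good_E6.full.ns_conj i0.isLt hlt, show E6Data.tab.reflT i0.val s = s from hr,
    sgn_cast good_E6 i0.isLt hlt, one_mul]

theorem tw_segProd {T' : Set ℕ} (hT : ∀ s ∈ T', s ∈ A3) (f : ℕ → E) : ∀ m k,
    tw Φ (good_E6.segProd T' f k m) = good_E6.segProd T' (fun r => f r ^ 2) k m := by
  intro m
  induction m with
  | zero => intro k; simp [Good.segProd, tw, Φ.A_one]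
  | succ m ih =>
    intro k
    simp only [Good.segProd]
    rw [tw_mul (by split_ifs; exacts [good_E6.x_mem_group _ _, one_mem _])
      (good_E6.US_le_group _ (good_E6.segProd_mem T' f m (k + 1))), ih]
    congr 1
    split_ifs with h
    · exact tw_x S (hT k h) _
    · simp [tw, Φ.A_one]

theorem tw_L2 {l : GL chevE6.Idx E} (hl : l ∈ L2 E) : tw Φ l = l := by
  let H : Subgroup (GL chevE6.Idx E) :=
    { carrier := {z | z ∈ chevE6.group E ∧ tw Φ z = z}
      mul_mem' := fun ⟨a1, a2⟩ ⟨b1, b2⟩ => ⟨mul_mem a1 b1, by rw [tw_mul a1 b1, a2, b2]⟩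
      one_mem' := ⟨one_mem _, by simp [tw, Φ.A_one]⟩
      inv_mem' := fun {a} ⟨a1, a2⟩ => ⟨inv_mem a1, by
        refine eq_inv_of_mul_eq_one_right ?_
        conv_lhs => arg 1; rw [← a2]
        rw [← tw_mul a1 (inv_mem a1), mul_inv_cancel]
        simp [tw, Φ.A_one]⟩ }
  have : L2 E ≤ H := by
    rw [L2, Subgroup.closure_le]
    rintro g ⟨s, hs, rfl⟩
    exact ⟨good_E6.x_mem_group _ _, by rw [tw_x S hs, one_pow]⟩
  exact (this hl).2

theorem tw_hT (d : Fin chevE6.rank → Eˣ) :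
    tw Φ (E6Data.tab.hT E d) = E6Data.tab.hT E (twc d) := by
  rw [tw, Φ.A_hT, mul_inv_eq_iff_eq_mul, good_E6.ns_hT_eq i0]
  congr 2
  have hσ : ∀ j : Fin 6, co (Φ.σc d) j = co d ((![5, 1, 4, 3, 2, 0] : Fin 6 → Fin 6) j) ^ 2 := by
    intro j
    have hj : Φ.ρ.symm j = (![5, 1, 4, 3, 2, 0] : Fin 6 → Fin 6) j := by
      refine Φ.ρ.injective ((Equiv.apply_symm_apply Φ.ρ _).trans ?_)
      exact Fin.ext (Eq.symm ((S.hρ _).trans (by fin_cases j <;> rfl)))
    refine Units.ext ?_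
    show Φ.f (good_E6.full.simp' (Φ.ρ.symm j)) _ = _
    rw [S.hf, hj]
    exact (Units.val_pow_eq_pow_val _ _).symm
  have hχ : E6Data.tab.chi (F := E) (chevE6.simple (i0 : ℕ)) (Φ.σc d) =
      co (Φ.σc d) 0 ^ 2 * (co (Φ.σc d) 2)⁻¹ := by
    show ∏ i : Fin 6, co (Φ.σc d) i ^ E6Data.tab.cart (i : ℕ) (chevE6.simple ((0 : Fin 6) : ℕ)) = _
    simp only [Fin.prod_univ_six, E6Tw.cartE6]
    simp [zpow_two, pow_two]
  refine co_ext fun i => ?_
  rw [co_mul, hχ, co_twc]
  rcases eq_or_ne i 0 with rfl | hi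
  · rw [show co (Pi.mulSingle i0 (co (Φ.σc d) 0 ^ 2 * (co (Φ.σc d) 2)⁻¹)⁻¹) 0 = _ from
      Pi.mulSingle_eq_same (M := fun _ => Eˣ) i0 _, hσ, hσ]
    refine Units.ext ?_
    simp [pow_two]
    field_simp
  · rw [show co (Pi.mulSingle i0 (co (Φ.σc d) 0 ^ 2 * (co (Φ.σc d) 2)⁻¹)⁻¹) i = 1 from
      Pi.mulSingle_eq_of_ne (M := fun _ => Eˣ) (show (i : Fin chevE6.rank) ≠ i0 from hi) _,
      mul_one, hσ]
    fin_cases i <;> first | exact absurd rfl hi | rfl

end Twist

section Torus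

variable {E : Type*} [Field E] [Fintype E] [CharP E 2] {τ ζ : E} (R : Roots τ ζ)
include R

omit [Fintype E] in
theorem Roots.ne_one : ζ ≠ 1 := fun h => by
  have hs := R.sum
  rw [h, one_pow, CharTwo.add_self_eq_zero] at hs
  simpa [← hs] using R.tau

omit [Fintype E] in
theorem Roots.order : orderOf R.zu = 5 := by
  have : Fact (Nat.Prime 5) := ⟨by norm_num⟩
  exact orderOf_eq_prime (Units.ext (by simpa [Roots.zu] using R.pow))
    fun h => R.ne_one (congrArg Units.val h)

omit [Fintype E] in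
theorem Roots.chi_cc (s : ℕ) : E6Data.tab.chi (F := E) s R.cc =
    R.zu ^ (E6Data.tab.cart 0 s + 2 * E6Data.tab.cart 5 s) := by
  have one : ∀ (i : Fin chevE6.rank) (u : Eˣ),
      E6Data.tab.chi (F := E) s (Pi.mulSingle i u) = u ^ E6Data.tab.cart i s := fun i u => by
    show ∏ j, (Pi.mulSingle i u : Fin chevE6.rank → Eˣ) j ^ E6Data.tab.cart j s = _
    rw [Finset.prod_eq_single i (fun j _ hj => by rw [Pi.mulSingle_eq_of_ne hj, _root_.one_zpow])
      (by simp), Pi.mulSingle_eq_same]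
  rw [Roots.cc, map_mul, one, one, _root_.zpow_add, ← zpow_natCast, ← _root_.zpow_mul]
  rfl

omit [Fintype E] in
theorem Roots.chi_eq_one {s : ℕ} (h : E6Data.tab.chi (F := E) s R.cc = 1) :
    (E6Data.tab.cart 0 s + 2 * E6Data.tab.cart 5 s) % 5 = 0 := by
  rw [R.chi_cc, ← orderOf_dvd_iff_zpow_eq_one, R.order] at h
  exact Int.emod_eq_zero_of_dvd (by exact_mod_cast h)

omit [Fintype E] in
theorem Roots.wt_eq {s s' : ℕ}
    (h : E6Data.tab.chi (F := E) s R.cc = E6Data.tab.chi (F := E) s' R.cc) : wt s = wt s' := by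
  rw [R.chi_cc, R.chi_cc, zpow_eq_zpow_iff_modEq, R.order] at h
  exact congrArg Int.toNat h

omit [Fintype E] in
theorem Roots.L2_t {l : GL chevE6.Idx E} (hl : l ∈ L2 E) : Commute l R.t := by
  have : L2 E ≤ Subgroup.centralizer ({R.t} : Set (GL chevE6.Idx E)) := by
    rw [L2, Subgroup.closure_le]
    rintro g ⟨s, hs, rfl⟩
    obtain ⟨hlt, -, -, hw, -⟩ := A3_spec hs
    have h1 : E6Data.tab.chi (F := E) s R.cc = 1 := by
      rw [R.chi_cc, ← orderOf_dvd_iff_zpow_eq_one, R.order]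
      exact Int.dvd_of_emod_eq_zero hw
    have h := good_E6.full.hT_conj hlt R.cc (1 : E)
    rw [h1, Units.val_one, one_mul, mul_inv_eq_iff_eq_mul] at h
    rw [SetLike.mem_coe, Subgroup.mem_centralizer_singleton_iff]
    exact h.symm
  exact Subgroup.mem_centralizer_singleton_iff.mp (this hl)

theorem torus_fixed (hE : Fintype.card E = 16) {d : Fin chevE6.rank → Eˣ}
    (h : E6Data.tab.hT E (twc d) = E6Data.tab.hT E d) :
    ∃ j : ℕ, E6Data.tab.hT E d = R.t ^ j := by
  classical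
  have h15 : ∀ u : Eˣ, u ^ 15 = 1 := fun u => by
    have := pow_card_eq_one (x := u)
    rwa [Fintype.card_units, hE] at this
  have h3 : twc d ^ 3 = d ^ 3 := by
    have := good_E6.ker_pow (F := E) (c := twc d / d) E6Tw.chkKer3
      (by rw [map_div, h, div_self'])
    rwa [div_pow, div_eq_one] at this
  -- the part of order five
  set p := d ^ 6 with hpdef
  have hp : twc p = p := by
    rw [hpdef, twc_pow, show (6 : ℕ) = 3 * 2 from rfl, pow_mul, h3, ← pow_mul]
  have hp5 : ∀ i, co p i ^ 5 = 1 := fun i => by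
    rw [hpdef, co_pow, ← pow_mul, show 6 * 5 = 15 * 2 from rfl, pow_mul, h15, one_pow]
  have q : ∀ i : Fin 6, co (twc p) i = co p i := fun i => by rw [hp]
  simp only [co_twc] at q
  have q0 := q 0; have q1 := q 1; have q2 := q 2; have q3 := q 3; have q4 := q 4; have q5 := q 5
  simp at q0 q1 q2 q3 q4 q5
  have hz2 : co p 2 = 1 := by
    have e : co p 2 ^ 4 = co p 2 := by
      rw [show (4 : ℕ) = 2 * 2 from rfl, pow_mul, q4, q2]
    have e3 : co p 2 ^ 3 = 1 :=
      mul_right_cancel (b := co p 2) (by rw [← pow_succ, e, one_mul])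
    calc co p 2 = co p 2 ^ 5 * co p 2 := by rw [hp5, one_mul]
      _ = (co p 2 ^ 3) ^ 2 := by rw [← pow_succ, ← pow_mul]
      _ = 1 := by rw [e3, one_pow]
  have hz4 : co p 4 = 1 := by rw [← q4, hz2, one_pow]
  have hz1 : co p 1 = 1 := by first | exact q1 | rwa [pow_two, mul_eq_left] at q1
  have hz3 : co p 3 = 1 := by first | exact q3 | rwa [pow_two, mul_eq_left] at q3
  have hprim : IsPrimitiveRoot R.zu 5 := R.order ▸ IsPrimitiveRoot.orderOf _
  obtain ⟨j, -, hj⟩ := ((IsPrimitiveRoot.coe_units_iff).mpr hprim).eq_pow_of_pow_eq_one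
    (ξ := ((co p 0 : Eˣ) : E)) (by rw [← Units.val_pow_eq_pow_val, hp5, Units.val_one])
  have hpj : p = R.cc ^ j := by
    have e0 : co p 0 = R.zu ^ j := Units.ext (by rw [Units.val_pow_eq_pow_val, hj])
    refine co_ext fun i => Eq.trans ?_ (co_pow _ _ _).symm
    rw [Roots.cc, co_mul]
    have sg : ∀ (a : Fin chevE6.rank) (u : Eˣ), co (Pi.mulSingle a u) i =
        if (i : ℕ) = a.val then u else 1 := fun a u => by
      show (Pi.mulSingle a u : Fin chevE6.rank → Eˣ) _ = _
      split_ifs with h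
      · rw [show (i : Fin chevE6.rank) = a from Fin.ext h, Pi.mulSingle_eq_same]
      · exact Pi.mulSingle_eq_of_ne (fun e => h (by rw [← e])) _
    rw [sg, sg]
    fin_cases i
    · exact e0.trans (by simp)
    · exact hz1.trans (by simp)
    · exact hz2.trans (by simp)
    · exact hz3.trans (by simp)
    · exact hz4.trans (by simp)
    · exact q5.symm.trans (by rw [e0]; simp [← pow_mul, Nat.mul_comm])
  -- the part of order three
  set r := d ^ 10 with hrdef
  have hr3 : ∀ i, co r i ^ 3 = 1 := fun i => by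
    rw [hrdef, co_pow, ← pow_mul, show 10 * 3 = 15 * 2 from rfl, pow_mul, h15, one_pow]
  have hτ0 : τ ≠ 0 := fun e => by simpa [e] using R.tau
  set ω : Eˣ := Units.mk0 τ hτ0
  have hω : orderOf ω = 3 := by
    have : Fact (Nat.Prime 3) := ⟨by norm_num⟩
    exact orderOf_eq_prime (Units.ext (by simpa [ω] using tau_cube R.tau))
      fun e => tau_ne_one R.tau (congrArg Units.val e)
  have hb : ∀ i : Fin 6, ∃ b < 3, co r i = ω ^ b := fun i => by
    have hpr : IsPrimitiveRoot ω 3 := hω ▸ IsPrimitiveRoot.orderOf _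
    obtain ⟨b, hb, e⟩ := ((IsPrimitiveRoot.coe_units_iff).mpr hpr).eq_pow_of_pow_eq_one
      (ξ := ((co r i : Eˣ) : E)) (by rw [← Units.val_pow_eq_pow_val, hr3, Units.val_one])
    exact ⟨b, hb, Units.ext (by rw [Units.val_pow_eq_pow_val, e])⟩
  choose b hb hrb using hb
  have hchi : ∀ (c : Fin chevE6.rank → Eˣ) (z : Fin 6 → ℤ), (∀ i : Fin 6, co c i = ω ^ z i) → ∀ j,
      E6Data.tab.chi (F := E) (chevE6.simple j) c =
        ω ^ lin6 (z 0) (z 1) (z 2) (z 3) (z 4) (z 5) j := fun c z hz j => by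
    show ∏ i : Fin 6, co c i ^ E6Data.tab.cart i (chevE6.simple j) = _
    simp only [Fin.prod_univ_six, hz, ← _root_.zpow_mul, ← _root_.zpow_add]
    rfl
  have hr1 := hchi r (fun i => (b i : ℤ)) fun i => by rw [hrb, zpow_natCast]
  have hr2 := hchi (twc r) ![-(2 * (b 5 : ℤ)) + 2 * b 4, 2 * b 1, 2 * b 4, 2 * b 3, 2 * b 2,
      2 * b 0] fun i => by
    have e : ∀ k : Fin 6, co r k ^ 2 = ω ^ (2 * (b k : ℤ)) := fun k => by
      rw [hrb, ← pow_mul, mul_comm, ← zpow_natCast]; push_cast; rfl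
    rw [co_twc]; fin_cases i <;> simp [e, _root_.zpow_add, ← _root_.zpow_neg]
  have hker : E6Data.tab.hT E (twc r / r) = 1 := by
    rw [map_div, hrdef, twc_pow, map_pow, map_pow, h, div_self']
  have hrone : E6Data.tab.hT E r = 1 := by
    rw [good_E6.full.hT_eq_one_iff] at hker ⊢
    have hlin := three_fixed (b := b) hb fun j hj => by
      have e := hker j hj
      rw [map_div, div_eq_one, hr1, hr2, zpow_eq_zpow_iff_modEq, hω] at e
      simp at e
      exact Int.emod_eq_emod_iff_emod_sub_eq_zero.mp e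
    intro j hj
    rw [hr1, ← orderOf_dvd_iff_zpow_eq_one, hω]
    exact Int.dvd_of_emod_eq_zero (hlin j hj)
  refine ⟨j, ?_⟩
  have ed : d = p * r := by
    rw [hpdef, hrdef, ← pow_add, show (6 + 10 : ℕ) = 15 + 1 from rfl, pow_succ,
      show d ^ 15 = 1 from funext fun i => h15 (d i), one_mul]
  rw [ed, map_mul, hrone, mul_one, hpj, map_pow, Roots.t]

omit [Fintype E] in
/-- The normal form of an element which commutes with the element of the torus. -/
theorem comm_form {v u : GL chevE6.Idx E} {d : Fin chevE6.rank → Eˣ} {L : List (Fin chevE6.rank)}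
    (hv : v ∈ chevE6.posUnipotent E) (hu : u ∈ good_E6.US E (flipSet (good_E6.full.pw L)))
    (hc : Commute (v * E6Data.tab.hT E d * good_E6.full.nw E L * u) R.t) :
    R.t * v * R.t⁻¹ = v ∧ R.t * u * R.t⁻¹ = u ∧
      ∃ M ∈ stabToks, good_E6.full.pw L = good_E6.full.pw (stabList M) := by
  classical
  set t := R.t with ht
  have hD : ∀ c : Fin chevE6.rank → Eˣ, E6Data.tab.hT E c ∈ chevE6.diagonalSubgroup E := fun c => by
    rw [good_E6.full.diagonal_eq_range]; exact ⟨c, rfl⟩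
  have htT : t ∈ chevE6.diagonalSubgroup E := hD _
  have hvU : v ∈ good_E6.US E {r | IsPos chevE6 r} := by rwa [← good_E6.posUnipotent_eq]
  have hm := good_E6.nw_mem_monomial (F := E) L
  set m := good_E6.full.nw E L
  have hL := good_E6.rootAct_nw (F := E) L
  -- the equations of the centraliser
  have hmd : t * m * t⁻¹ * m⁻¹ ∈ chevE6.diagonalSubgroup E := by
    rw [show t * m * t⁻¹ * m⁻¹ = t * (m * t⁻¹ * m⁻¹) by group]
    exact mul_mem htT ((good_E6.diagonal_normal (F := E)).conj_mem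
      ⟨t⁻¹, inv_mem (good_E6.hT_mem_monomial _)⟩ (inv_mem htT) ⟨m, hm⟩)
  have hdt : E6Data.tab.hT E d * t = t * E6Data.tab.hT E d := by
    rw [ht, Roots.t, ← map_mul, ← map_mul, mul_comm]
  have hv1 : t * v * t⁻¹ ∈ chevE6.posUnipotent E := by
    rw [good_E6.posUnipotent_eq]
    exact good_E6.hT_conj_US _ (fun s hs => hs.1) _ hvU
  have hu1 : t * u * t⁻¹ ∈ good_E6.US E (flipSet (good_E6.full.pw L)) :=
    good_E6.hT_conj_US _ (fun s hs => by obtain ⟨h, -⟩ := hs; exact h) _ hu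
  have e : v * E6Data.tab.hT E d * m * u =
      t * v * t⁻¹ * (E6Data.tab.hT E d * (t * m * t⁻¹ * m⁻¹)) * m * (t * u * t⁻¹) := by
    calc v * E6Data.tab.hT E d * m * u
        = t * (v * E6Data.tab.hT E d * m * u) * t⁻¹ := by rw [← hc.eq, mul_inv_cancel_right]
      _ = (t * v * t⁻¹) * (t * E6Data.tab.hT E d * t⁻¹) * (t * m * t⁻¹) * (t * u * t⁻¹) := by group
      _ = _ := by rw [← hdt, mul_inv_cancel_right]; group
  obtain ⟨e1, e2⟩ := (good_E6.canonical_unique
    (mul_mem (Tab.Good.pos_le_borel good_E6 hv) (Subgroup.mem_sup_right (hD d)))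
    (mul_mem (Tab.Good.pos_le_borel good_E6 hv1) (Subgroup.mem_sup_right (mul_mem (hD d) hmd)))
    hm hm hL hL hu hu1 e).2 rfl
  have hvv : (t * v * t⁻¹)⁻¹ * v ∈ chevE6.posUnipotent E ⊓ chevE6.diagonalSubgroup E := by
    refine Subgroup.mem_inf.mpr ⟨mul_mem (inv_mem hv1) hv, ?_⟩
    rw [show (t * v * t⁻¹)⁻¹ * v = E6Data.tab.hT E d * (t * m * t⁻¹ * m⁻¹) *
        (E6Data.tab.hT E d)⁻¹ by
      rw [eq_mul_inv_iff_mul_eq, mul_assoc, e1, inv_mul_cancel_left]]
    exact mul_mem (mul_mem (hD d) hmd) (inv_mem (hD d))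
  rw [good_E6.pos_inf_diagonal, Subgroup.mem_bot, inv_mul_eq_one] at hvv
  rw [hvv, mul_right_inj, left_eq_mul, mul_inv_eq_one] at e1
  -- the permutation
  refine ⟨hvv, e2.symm, stab (σ := good_E6.full.pw L) (good_E6.pw_mem_full L) fun s => by
    refine R.wt_eq ?_
    obtain ⟨k, hk⟩ := hL
    have h1 : m * (t * good_E6.full.x s.val 1 * t⁻¹) * m⁻¹ =
        t * (m * good_E6.full.x s.val 1 * m⁻¹) * t⁻¹ := by
      have hcm : m * t = t * m := (mul_inv_eq_iff_eq_mul.mp e1).symm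
      have h2 : m * t⁻¹ = t⁻¹ * m := (Commute.inv_right hcm).eq
      calc m * (t * good_E6.full.x s.val 1 * t⁻¹) * m⁻¹
          = m * t * good_E6.full.x s.val 1 * (m * t)⁻¹ := by group
        _ = _ := by rw [hcm]; group
    rw [ht, Roots.t, good_E6.full.hT_conj s.isLt, (hk s).2.2.2, (hk s).2.2.2,
      good_E6.full.hT_conj (Fin.isLt _)] at h1
    have h3 := congrArg (fun g => g * good_E6.full.x (good_E6.full.pw L s).val
      (-((E6Data.tab.chi (F := E) (good_E6.full.pw L s).val R.cc : E) * ((k s : E) * 1)))) h1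
    simp only [good_E6.full.x_add, add_neg_cancel, good_E6.full.x_zero] at h3
    have h4 := good_E6.x_eq_one (Fin.isLt _) h3
    exact Units.ext (mul_right_cancel₀ (Units.ne_zero (k s)) (by linear_combination -h4))⟩

theorem fixed_form (hE : Fintype.card E = 16) {Φ : good_E6.Graph E} (S : Sq Φ)
    {z : GL chevE6.Idx E} (hz : z ∈ chevE6.group E) (hc : Commute z R.t) (hf : tw Φ z = z) :
    ∃ j : ℕ, ∃ l ∈ L2 E, z = R.t ^ j * l := by
  classical
  obtain ⟨v, hv, d, L, u, hu, rfl⟩ := good_E6.normal_form hz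
  set t := R.t with ht
  have hD : ∀ c : Fin chevE6.rank → Eˣ, E6Data.tab.hT E c ∈ chevE6.diagonalSubgroup E := fun c => by
    rw [good_E6.full.diagonal_eq_range]; exact ⟨c, rfl⟩
  have hvU : v ∈ good_E6.US E {r | IsPos chevE6 r} := by rwa [← good_E6.posUnipotent_eq]
  have hm := good_E6.nw_mem_monomial (F := E) L
  set m := good_E6.full.nw E L
  have hL := good_E6.rootAct_nw (F := E) L
  obtain ⟨hvv, huu, M, hM, hσ⟩ := comm_form R hv hu hc
  set N := good_E6.full.nw E (stabList M)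
  have hN : N ∈ L2 E := stabList_mem M
  have hNact : good_E6.full.RootAct N (good_E6.full.pw L) := hσ ▸ good_E6.rootAct_nw _
  have hNm : N ∈ chevE6.monomialSubgroup E := good_E6.nw_mem_monomial _
  have hdiag : m * N⁻¹ ∈ chevE6.diagonalSubgroup E :=
    good_E6.mem_diagonal_of_pos (mul_mem hm (inv_mem hNm))
      (good_E6.rootAct_mul hL (good_E6.rootAct_inv hNm hNact)) fun s hs => by
        rw [mul_inv_cancel]; exact hs
  rw [good_E6.full.diagonal_eq_range] at hdiag
  obtain ⟨e0, he0⟩ := hdiag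
  set d' := d * e0
  have hz' : v * E6Data.tab.hT E d * m * u = v * E6Data.tab.hT E d' * N * u := by
    rw [map_mul, he0]; group
  -- the unipotent parts lie in the subsystem
  set P : Set ℕ := {s | s ∈ {r | IsPos chevE6 r} ∧ E6Data.tab.chi (F := E) s R.cc = 1}
  set U : Set ℕ := {s | s ∈ flipSet (good_E6.full.pw L) ∧ E6Data.tab.chi (F := E) s R.cc = 1}
  have hP : E6Data.tab.Closed P := good_E6.closed_chi good_E6.closed_pos _
  have hU : E6Data.tab.Closed U := good_E6.closed_chi (good_E6.closed_flip L) _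
  have hPA : ∀ s ∈ P, s ∈ A3 := fun s hs => mem_A3 hs.1 (R.chi_eq_one hs.2)
  have hUA : ∀ s ∈ U, s ∈ A3 := fun s hs => by
    obtain ⟨⟨hlt, h1, -⟩, h2⟩ := hs
    exact mem_A3 h1 (R.chi_eq_one h2)
  have hvP := (good_E6.fixed_US good_E6.closed_pos _ hvU).mp hvv
  have huU := (good_E6.fixed_US (good_E6.closed_flip L) _ hu).mp huu
  rw [← SetLike.mem_coe, good_E6.US_eq_range hP] at hvP
  rw [← SetLike.mem_coe, good_E6.US_eq_range hU] at huU
  obtain ⟨f, hfv⟩ := hvP
  obtain ⟨f', hfu⟩ := huU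
  have hvP' : ∀ g : ℕ → E, good_E6.segProd P g 0 chevE6.nroots ∈ chevE6.posUnipotent E := fun g => by
    rw [good_E6.posUnipotent_eq]
    exact good_E6.US_mono (fun s hs => hs.1.1) (good_E6.segProd_mem P g _ _)
  have huU' : ∀ g : ℕ → E, good_E6.segProd U g 0 chevE6.nroots ∈
      good_E6.US E (flipSet (good_E6.full.pw L)) := fun g =>
    good_E6.US_mono (fun s hs => hs.1.1) (good_E6.segProd_mem U g _ _)
  -- the equations of the twisted Frobenius map
  have hg1 : v ∈ chevE6.group E := good_E6.US_le_group _ hvU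
  have hg2 : E6Data.tab.hT E d' ∈ chevE6.group E := good_E6.diagonal_le_group (hD d')
  have hg3 : N ∈ chevE6.group E := L2_le_group hN
  have hg4 : u ∈ chevE6.group E := good_E6.US_le_group _ hu
  rw [hz', tw_mul (mul_mem (mul_mem hg1 hg2) hg3) hg4, tw_mul (mul_mem hg1 hg2) hg3,
    tw_mul hg1 hg2, tw_hT S, tw_L2 S hN, ← hfv, ← hfu, tw_segProd S hPA, tw_segProd S hUA] at hf
  obtain ⟨e3, e4⟩ := (good_E6.canonical_unique
    (mul_mem (Tab.Good.pos_le_borel good_E6 (hvP' _)) (Subgroup.mem_sup_right (hD _)))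
    (mul_mem (Tab.Good.pos_le_borel good_E6 (hvP' _)) (Subgroup.mem_sup_right (hD d')))
    hNm hNm hNact hNact (huU' _) (huU' _) hf).2 rfl
  have hvd : (good_E6.segProd P f 0 chevE6.nroots)⁻¹ *
      good_E6.segProd P (fun r => f r ^ 2) 0 chevE6.nroots ∈
        chevE6.posUnipotent E ⊓ chevE6.diagonalSubgroup E := by
    refine Subgroup.mem_inf.mpr ⟨mul_mem (inv_mem (hvP' _)) (hvP' _), ?_⟩
    rw [show (good_E6.segProd P f 0 chevE6.nroots)⁻¹ *
        good_E6.segProd P (fun r => f r ^ 2) 0 chevE6.nroots =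
          E6Data.tab.hT E d' * (E6Data.tab.hT E (twc d'))⁻¹ by
      rw [eq_mul_inv_iff_mul_eq, mul_assoc, e3, inv_mul_cancel_left]]
    exact mul_mem (hD _) (inv_mem (hD _))
  rw [good_E6.pos_inf_diagonal, Subgroup.mem_bot, inv_mul_eq_one] at hvd
  rw [← hvd, mul_right_inj] at e3
  obtain ⟨j, hj⟩ := torus_fixed R hE e3
  have hbit : ∀ {Q : Set ℕ} {g : ℕ → E}, E6Data.tab.Closed Q →
      good_E6.segProd Q (fun r => g r ^ 2) 0 chevE6.nroots = good_E6.segProd Q g 0 chevE6.nroots →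
      ∀ s ∈ Q, g s = 0 ∨ g s = 1 := fun {Q g} hQ he s hs => by
    have h := good_E6.segProd_injective hQ chevE6.nroots 0 _ _ (zero_add _) he s hs (Nat.zero_le _)
    rcases eq_or_ne (g s) 0 with h0 | h0
    · exact Or.inl h0
    · exact Or.inr (mul_right_cancel₀ h0 (by rw [one_mul, ← pow_two]; exact h))
  have hvL : v ∈ L2 E := hfv ▸ segProd_mem_L2 hPA (hbit hP hvd.symm) _ _
  have huL : u ∈ L2 E := hfu ▸ segProd_mem_L2 hUA (hbit hU e4) _ _
  refine ⟨j, v * N * u, mul_mem (mul_mem hvL hN) huL, ?_⟩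
  rw [hz', hj, ((R.L2_t hvL).pow_right j).eq, ← ht]
  group

end Torus

end CfsgLib.Chev.E6Five
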