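import Cfsg.Agent.Chev.E6TwFive.Cent

/-!
The centraliser in `²E₆(2)` of the element of order five.
-/

set_option autoImplicit false

namespace CfsgLib.Chev.E6Five

open Cfsg.Lie Matrix Tab Quart E6Tw
open scoped MatrixGroups

/-- The element of order five. -/
noncomputable def xEl {F : Type*} [Field F] (τ : F) : GL chevE6.Idx F :=
  el good_E6 τ (pairsW xPairs)

section Map

variable {K E : Type*} [Field K] [Field E] (f : K →+* E)

theorem glMap_el (τ : K) (L : List (ℕ × ℕ)) :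
    glMap chevE6 f (el good_E6 τ L) = el good_E6 (f τ) L := by
  rw [el, el, map_list_prod, List.map_map]
  exact congrArg List.prod (List.map_congr_left fun p _ => by simp [good_E6.glMap_x, map_pow])

theorem L2_le_map : L2 E ≤ (L2 K).map (glMap chevE6 f) := by
  rw [L2, Subgroup.closure_le]
  rintro g ⟨s, hs, rfl⟩
  exact ⟨good_E6.full.x s 1, Subgroup.subset_closure ⟨s, hs, rfl⟩,
    by rw [good_E6.glMap_x, map_one]⟩

theorem A_glMap [CharP K 2] [CharP E 2] {Φ : good_E6.Graph K} (S : Sq Φ) {Ψ : good_E6.Graph E} (S' : Sq Ψ)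
    {y : GL chevE6.Idx K} (hy : y ∈ chevE6.group K) :
    Ψ.A (glMap chevE6 f y) = glMap chevE6 f (Φ.A y) := by
  let H : Subgroup (GL chevE6.Idx K) :=
    { carrier := {y | y ∈ chevE6.group K ∧ Ψ.A (glMap chevE6 f y) = glMap chevE6 f (Φ.A y)}
      mul_mem' := fun {a b} ⟨a1, a2⟩ ⟨b1, b2⟩ => ⟨mul_mem a1 b1, by
        rw [map_mul, Ψ.A_mul (good_E6.glMap_group f a1) (good_E6.glMap_group f b1), a2, b2,
          Φ.A_mul a1 b1, map_mul]⟩
      one_mem' := ⟨one_mem _, by rw [map_one, Ψ.A_one, Φ.A_one, map_one]⟩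
      inv_mem' := fun {a} ⟨a1, a2⟩ => ⟨inv_mem a1, by
        rw [map_inv, Ψ.A_inv (good_E6.glMap_group f a1), a2, Φ.A_inv a1, map_inv]⟩ }
  have : chevE6.group K ≤ H := good_E6.group_le_iff.mpr fun r hr v =>
    ⟨good_E6.x_mem_group _ _, by
      rw [good_E6.glMap_x, S'.A_x hr, S.A_x hr, good_E6.glMap_x, map_pow]⟩
  exact (this hy).2

end Map

section Cent

variable {K : Type*} [Field K] [Fintype K] [CharP K 2] (C : Ctx K 2) {τ : K}
  (hτ : τ ^ 2 + τ + 1 = 0)

theorem exists_roots {E : Type*} [Field E] [Fintype E] [CharP E 2] (hE : Fintype.card E = 16)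
    {σ : E} (hσ : σ ^ 2 + σ + 1 = 0) : ∃ ζ : E, Roots σ ζ := by
  classical
  have : Fact (Nat.Prime 5) := ⟨by norm_num⟩
  obtain ⟨z, hz⟩ := exists_prime_orderOf_dvd_card (G := Eˣ) 5
    (by rw [Fintype.card_units, hE]; norm_num)
  have h5 : (z : E) ^ 5 = 1 := by
    rw [← Units.val_pow_eq_pow_val, ← hz, pow_orderOf_eq_one, Units.val_one]
  have h1 : (z : E) ≠ 1 := fun e => by
    rw [Units.val_eq_one.mp e, orderOf_one] at hz; norm_num at hz
  have h2 : (2 : E) = 0 := CharTwo.two_eq_zero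
  set w := (z : E)
  have hsum : 1 + w + w ^ 2 + w ^ 3 + w ^ 4 = 0 :=
    mul_left_cancel₀ (sub_ne_zero.mpr h1) (by linear_combination h5)
  have hu : (w + w ^ 4 - σ) * (w + w ^ 4 - σ ^ 2) = 0 := by
    linear_combination hsum + w ^ 3 * h5 - (w + w ^ 4) * hσ + (σ - 1) * hσ + w ^ 5 * h2
  rcases mul_eq_zero.mp hu with h | h
  · exact ⟨w, hσ, sub_eq_zero.mp h, h5⟩
  · refine ⟨w ^ 2, hσ, ?_, by rw [← pow_mul, mul_comm 2 5, pow_mul, h5, one_pow]⟩
    rw [sub_eq_zero] at h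
    linear_combination (w + w ^ 4 + σ ^ 2) * h + σ * (σ - 1) * hσ - w ^ 5 * h2

include hτ in
theorem xEl_mem : xEl τ ∈ C.Z.G1 := pairs_mem C hτ (by decide +kernel)

include hτ in
theorem L2_mem : L2 K ≤ C.Z.G1 := by
  rw [L2, Subgroup.closure_le]
  rintro g ⟨s, hs, rfl⟩
  obtain ⟨hlt, hpi, -⟩ := A3_spec hs
  have := pairEl_mem C hlt (1 : K) fun _ => one_pow 2
  rwa [pairEl, if_pos hpi] at this

include hτ in
theorem L2_commute {l : GL chevE6.Idx K} (hl : l ∈ L2 K) : Commute l (xEl τ) := by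
  have ns0 : hom0 K RankOne.eN = good_E6.full.ns K (i0 : ℕ) :=
    (good_E6.rankOne K i0).phi_eN
  obtain ⟨⟨e1, e2⟩, e3, e4⟩ := outer_eq
  have hx : xEl τ = hom0 K (RankOne.eX τ * RankOne.eN) *
      hom5 K (RankOne.eX (τ ^ 2) * RankOne.eN) := by
    rw [xEl, el_eq good_E6 τ hτ xSplit_eq, map_mul, map_mul, ns0,
      show hom5 K RankOne.eN = good_E6.full.ns K (i5 : ℕ) from (good_E6.rankOne K i5).phi_eN,
      ns_three good_E6 i0, ns_three good_E6 i5, e2, e1, e4, e3,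
      show hom0 K (RankOne.eX τ) = good_E6.full.x 56 τ from
        ((good_E6.rankOne K i0).phi_eX τ).trans (by rw [← e1]; rfl),
      show hom5 K (RankOne.eX (τ ^ 2)) = good_E6.full.x 36 (τ ^ 2) from
        ((good_E6.rankOne K i5).phi_eX _).trans (by rw [← e3]; rfl)]
    simp [el, xSplit, mul_assoc]
  rw [hx]
  exact L2_commute_hom hl _ _

include hτ in
theorem cent_form {y : GL chevE6.Idx K} (hy : y ∈ C.Z.G1) (hc : Commute y (xEl τ)) :
    ∃ j : ℕ, ∃ l ∈ L2 K, y = xEl τ ^ j * l := by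
  classical
  let : Algebra (ZMod 2) K := ZMod.algebra K 2
  have hdim : Module.finrank (ZMod 2) K ∣ Module.finrank (ZMod 2) (GaloisField 2 4) := by
    have h := Module.card_eq_pow_finrank (K := ZMod 2) (V := K)
    rw [C.hK, ZMod.card] at h
    rw [GaloisField.finrank 2 (by norm_num : (4 : ℕ) ≠ 0),
      ← (Nat.pow_right_injective le_rfl h : 2 = Module.finrank (ZMod 2) K)]
    exact ⟨2, rfl⟩
  obtain ⟨a⟩ := FiniteField.nonempty_algHom_of_finrank_dvd hdim
  let E := GaloisField 2 4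
  let f : K →+* E := a.toRingHom
  let : Fintype E := Fintype.ofFinite _
  have hE : Fintype.card E = 16 := by
    rw [← Nat.card_eq_fintype_card, GaloisField.card 2 4 (by norm_num)]; norm_num
  have hσ : f τ ^ 2 + f τ + 1 = 0 := by
    rw [← map_pow, ← map_add, ← map_one f, ← map_add, hτ, map_zero]
  obtain ⟨ζ, R⟩ := exists_roots hE hσ
  obtain ⟨Ψ, S'⟩ := exists_sq (F := E)
  have hyG : y ∈ chevE6.group K ∧ C.Φ.A y = y := C.Z.le_fix hy
  set Y := glMap chevE6 f y with hY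
  set n := good_E6.full.ns E (i0 : ℕ)
  have hYG : Y ∈ chevE6.group E := good_E6.glMap_group f hyG.1
  have hn : n ∈ chevE6.group E := good_E6.ns_mem_group i0
  have hx : glMap chevE6 f (xEl τ) = xEl (f τ) := glMap_el f τ _
  set z := R.g⁻¹ * Y * R.g with hzdef
  have hz : z ∈ chevE6.group E := mul_mem (mul_mem (inv_mem R.g_mem) hYG) R.g_mem
  have hxg : R.g * R.t * R.g⁻¹ = xEl (f τ) := by
    rw [← R.xEl_g, mul_inv_cancel_right]; rfl
  have hzt : Commute z R.t := by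
    have h : Y * xEl (f τ) = xEl (f τ) * Y := by
      rw [hY, ← hx, ← map_mul, ← map_mul, hc.eq]
    rw [← hxg] at h
    show z * R.t = R.t * z
    calc z * R.t = R.g⁻¹ * (Y * (R.g * R.t * R.g⁻¹)) * R.g := by rw [hzdef]; group
      _ = R.t * z := by rw [h, hzdef]; group
  have hzf : tw Ψ z = z := by
    rw [tw, hzdef, Ψ.A_mul (mul_mem (inv_mem R.g_mem) hYG) R.g_mem,
      Ψ.A_mul (inv_mem R.g_mem) hYG, Ψ.A_inv R.g_mem, R.A_g S', hY,
      A_glMap f (sq_of_ctx C) S' hyG.1, hyG.2]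
    group
  obtain ⟨j, l, hl, e⟩ := fixed_form R hE S' hz hzt hzf
  obtain ⟨l0, hl0, rfl⟩ := L2_le_map f hl
  refine ⟨j, l0, hl0, glMap_injective f ?_⟩
  rw [map_mul, map_pow, hx, ← hxg, ← hY, conj_pow]
  have hg : glMap chevE6 f l0 = R.g * glMap chevE6 f l0 * R.g⁻¹ := by
    rw [← (R.L2_g hl).eq, mul_inv_cancel_right]
  rw [hg]
  calc Y = R.g * z * R.g⁻¹ := by rw [hzdef]; group
    _ = _ := by rw [e]; group

end Cent

end CfsgLib.Chev.E6Five
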