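import Mathlib.GroupTheory.Sylow
import Mathlib.GroupTheory.SpecificGroups.Alternating.Simple
import Mathlib.GroupTheory.SpecificGroups.Cyclic
import Mathlib.GroupTheory.NoncommCoprod
import Mathlib.Tactic.NormNum.Prime

/-!
Conjugacy of the elements of order five from the congruence of a class with the fixed points of a
Sylow subgroup of order twenty-five.
-/

set_option autoImplicit false

namespace CfsgLib.Chev.E6Five

/-- An element of order five of `A₈` is conjugate to its square. -/
theorem alt_sq {σ : alternatingGroup (Fin 8)} (h : orderOf σ = 5) : IsConj σ (σ ^ 2) := by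
  have h2 : orderOf (σ ^ 2) = 5 := by
    rw [orderOf_pow' σ two_ne_zero, h]; rfl
  have key : ∀ {τ : alternatingGroup (Fin 8)}, orderOf τ = 5 →
      (τ : Equiv.Perm (Fin 8)).cycleType = Multiset.replicate 1 5 := by
    intro τ hτ
    have ho : orderOf (τ : Equiv.Perm (Fin 8)) = 5 := by rw [Subgroup.orderOf_coe, hτ]
    obtain ⟨n, hn⟩ := Equiv.Perm.cycleType_prime_order
      (σ := (τ : Equiv.Perm (Fin 8))) (by rw [ho]; norm_num)
    have hs := Equiv.Perm.sum_cycleType (τ : Equiv.Perm (Fin 8))
    have hle := (τ : Equiv.Perm (Fin 8)).support.card_le_univ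
    rw [ho] at hn
    rw [hn, Multiset.sum_replicate, smul_eq_mul] at hs
    rw [Fintype.card_fin] at hle
    rw [hn, show n = 0 by omega]
  refine alternatingGroup.isConj_of (Equiv.Perm.isConj_iff_cycleType_eq.mpr
    ((key h).trans (key h2).symm)) ?_
  rw [← Equiv.Perm.sum_cycleType, key h]
  simp

variable {G : Type*} [Group G]

/-- The centraliser of an element from a commuting subgroup isomorphic to `A₈`. -/
theorem centralizer_equiv {x : G} (hx : orderOf x = 5) {L : Subgroup G}
    (e : L ≃* alternatingGroup (Fin 8)) (hcomm : ∀ l ∈ L, Commute l x)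
    (hform : ∀ c : G, Commute c x → ∃ j : ℕ, ∃ l ∈ L, c = x ^ j * l) :
    Nonempty (↥(Subgroup.centralizer ({x} : Set G)) ≃*
      (Multiplicative (ZMod 5) × ↥(alternatingGroup (Fin 8)))) := by
  have hcx : ∀ a ∈ Subgroup.zpowers x, ∀ l ∈ L, Commute a l := by
    rintro _ ⟨k, rfl⟩ l hl
    exact ((hcomm l hl).symm).zpow_left k
  have hdis : ∀ a ∈ Subgroup.zpowers x, a ∈ L → a = 1 := by
    intro a ha haL
    have hcen : (e ⟨a, haL⟩) ∈ Subgroup.center (alternatingGroup (Fin 8)) := by
      rw [Subgroup.mem_center_iff]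
      intro b
      obtain ⟨⟨l, hl⟩, rfl⟩ := e.surjective b
      rw [← map_mul, ← map_mul]
      exact congrArg e (Subtype.ext (hcx a ha l hl).eq.symm)
    rw [alternatingGroup.center_eq_bot (by simp), Subgroup.mem_bot, map_eq_one_iff e e.injective]
      at hcen
    exact congrArg Subtype.val hcen
  let F : Subgroup.zpowers x × L →* G := MonoidHom.noncommCoprod (Subgroup.zpowers x).subtype
    L.subtype fun a l => hcx a a.2 l l.2
  have hF : Function.Injective F := by
    refine (injective_iff_map_eq_one F).mpr ?_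
    rintro ⟨⟨a, ha⟩, ⟨l, hl⟩⟩ h
    have h' : a * l = 1 := h
    have ha1 : a = 1 := hdis a ha (by rw [eq_inv_of_mul_eq_one_left h']; exact inv_mem hl)
    subst ha1
    rw [one_mul] at h'
    subst h'
    rfl
  have hr : F.range = Subgroup.centralizer ({x} : Set G) := by
    refine le_antisymm ?_ fun c hc => ?_
    · rintro _ ⟨⟨⟨a, ha⟩, ⟨l, hl⟩⟩, rfl⟩
      rw [Subgroup.mem_centralizer_singleton_iff]
      obtain ⟨k, rfl⟩ := ha
      exact ((Commute.refl x).zpow_left k).mul_left (hcomm l hl)
    · obtain ⟨j, l, hl, rfl⟩ := hform c (Subgroup.mem_centralizer_singleton_iff.mp hc)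
      exact ⟨(⟨x ^ j, Subgroup.npow_mem_zpowers x j⟩, ⟨l, hl⟩), rfl⟩
  have hcard : Nat.card (Subgroup.zpowers x) = 5 := by rw [Nat.card_zpowers, hx]
  let z : Subgroup.zpowers x ≃* Multiplicative (ZMod 5) :=
    (zmodCyclicMulEquiv (inferInstance : IsCyclic (Subgroup.zpowers x))).symm.trans
      (AddEquiv.toMultiplicative (ZMod.ringEquivCongr hcard).toAddEquiv)
  exact ⟨((MulEquiv.subgroupCongr hr).symm.trans (MonoidHom.ofInjective hF).symm).trans
    (z.prodCongr e)⟩

theorem isConj_pow {a b : G} (h : IsConj a b) (n : ℕ) : IsConj (a ^ n) (b ^ n) := by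
  obtain ⟨c, rfl⟩ := isConj_iff.mp h
  exact isConj_iff.mpr ⟨c, (conj_pow ..).symm⟩

/-- All elements of order five are conjugate. -/
theorem all_conj [Finite G] {x y g a c : G} (hx : orderOf x = 5) (hy : orderOf y = 5)
    (hxy : Commute x y) (hne : y ∉ Subgroup.zpowers x) (hg : g * x * g⁻¹ = y)
    (ha : a * x * a⁻¹ = x⁻¹) (hc : Commute c x) (hcy : c * y * c⁻¹ = y ^ 2)
    (hdvd : ¬ 125 ∣ Nat.card G) (hidx : (Subgroup.centralizer ({x} : Set G)).index % 5 = 4)
    (z : G) (hz : orderOf z = 5) : IsConj x z := by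
  classical
  have : Fact (Nat.Prime 5) := ⟨by norm_num⟩
  have hx5 : x ^ 5 = 1 := hx ▸ pow_orderOf_eq_one x
  have hy5 : y ^ 5 = 1 := hy ▸ pow_orderOf_eq_one y
  -- the Sylow subgroup
  let F : Subgroup.zpowers x × Subgroup.zpowers y →* G :=
    MonoidHom.noncommCoprod (Subgroup.zpowers x).subtype (Subgroup.zpowers y).subtype
      fun p q => by
        obtain ⟨i, hi⟩ := p.2
        obtain ⟨j, hj⟩ := q.2
        rw [Subgroup.coe_subtype, Subgroup.coe_subtype, ← hi, ← hj]
        exact hxy.zpow_zpow i j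
  have hinter : ∀ b ∈ Subgroup.zpowers x, b ∈ Subgroup.zpowers y → b = 1 := by
    intro b hb hb'
    by_contra h
    refine hne ?_
    have h1 : orderOf b = 5 := by
      have hdvd := orderOf_dvd_of_mem_zpowers hb'
      rw [hy, Nat.dvd_prime (by norm_num)] at hdvd
      exact hdvd.resolve_left fun e => h (orderOf_eq_one_iff.mp e)
    have e : Subgroup.zpowers b = Subgroup.zpowers y :=
      Subgroup.eq_of_le_of_card_ge (Subgroup.zpowers_le.mpr hb')
        (by rw [Nat.card_zpowers, Nat.card_zpowers, h1, hy])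
    exact (Subgroup.zpowers_le.mpr hb) (e ▸ Subgroup.mem_zpowers y)
  have hF : Function.Injective F := by
    refine (injective_iff_map_eq_one F).mpr ?_
    rintro ⟨⟨p, hp⟩, ⟨q, hq⟩⟩ h
    have h' : p * q = 1 := h
    have hp1 : p = 1 := hinter p hp (by rw [eq_inv_of_mul_eq_one_left h']; exact inv_mem hq)
    subst hp1
    rw [one_mul] at h'
    subst h'
    rfl
  set P := F.range with hP
  have hPc : Nat.card P = 25 := by
    rw [hP, Nat.card_congr (MonoidHom.ofInjective hF).toEquiv.symm, Nat.card_prod,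
      Nat.card_zpowers, Nat.card_zpowers, hx, hy]
  have hmemP : ∀ {p : G}, p ∈ P ↔ ∃ i < 5, ∃ j < 5, p = x ^ i * y ^ j := by
    intro p
    constructor
    · rintro ⟨⟨⟨b, hb⟩, ⟨d, hd⟩⟩, rfl⟩
      rw [← mem_powers_iff_mem_zpowers, mem_powers_iff_mem_range_orderOf, Finset.mem_image] at hb hd
      obtain ⟨i, hi, rfl⟩ := hb
      obtain ⟨j, hj, rfl⟩ := hd
      rw [Finset.mem_range, hx] at hi
      rw [Finset.mem_range, hy] at hj
      exact ⟨i, hi, j, hj, rfl⟩
    · rintro ⟨i, -, j, -, rfl⟩
      exact ⟨(⟨x ^ i, Subgroup.npow_mem_zpowers x i⟩, ⟨y ^ j, Subgroup.npow_mem_zpowers y j⟩), rfl⟩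
  have hmax : ∀ {R : Subgroup G}, IsPGroup 5 R → Nat.card R ≤ 25 := by
    intro R hR
    obtain ⟨k, hk⟩ := hR.exists_card_eq
    have hd : 5 ^ k ∣ Nat.card G := hk ▸ Subgroup.card_subgroup_dvd_card R
    have hk2 : k ≤ 2 := by
      by_contra h
      exact hdvd ((pow_dvd_pow 5 (show 3 ≤ k by omega)).trans hd)
    rw [hk]
    exact Nat.pow_le_pow_right (by norm_num) hk2
  have hPp : IsPGroup 5 P := IsPGroup.of_card (n := 2) hPc
  obtain ⟨Q, hQ⟩ := hPp.exists_le_sylow
  have hPQ : P = ↑Q := Subgroup.eq_of_le_of_card_ge hQ (hPc.symm ▸ hmax Q.2)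
  -- the nontrivial powers of `x` and `y`
  have hsq : IsConj x (x ^ 2) := by
    have h1 : IsConj x y := isConj_iff.mpr ⟨g, hg⟩
    have h2 : IsConj y (y ^ 2) := isConj_iff.mpr ⟨c, hcy⟩
    exact (h1.trans h2).trans (isConj_pow h1 2).symm
  have hpowx : ∀ i, i % 5 ≠ 0 → IsConj x (x ^ i) := by
    intro i hi
    rw [← pow_mod_orderOf, hx]
    have h4 : IsConj x (x ^ 4) := isConj_iff.mpr ⟨a, ha.trans
      (inv_eq_of_mul_eq_one_right (by rw [← pow_succ']; exact hx5))⟩
    have h3 : IsConj x (x ^ 3) := by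
      have := h4.trans (isConj_pow hsq 4)
      rwa [← pow_mul, show 2 * 4 = 5 + 3 from rfl, pow_add, hx5, one_mul] at this
    have : i % 5 < 5 := Nat.mod_lt _ (by norm_num)
    interval_cases h : i % 5
    · exact absurd rfl hi
    · rw [pow_one]
    · exact hsq
    · exact h3
    · exact h4
  have hpowy : ∀ j, j % 5 ≠ 0 → IsConj x (y ^ j) := fun j hj =>
    (hpowx j hj).trans (isConj_pow (isConj_iff.mpr ⟨g, hg⟩) j)
  have hdouble : ∀ m, IsConj (x * y ^ m) (x * y ^ (2 * m)) := fun m => isConj_iff.mpr ⟨c, by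
    rw [show c * (x * y ^ m) * c⁻¹ = (c * x * c⁻¹) * (c * y ^ m * c⁻¹) by group, ← conj_pow,
      hcy, hc.eq, mul_inv_cancel_right, ← pow_mul]⟩
  -- the key step
  have hxy1 : IsConj x (x * y) := by
    by_contra hno
    have hoff : ∀ i j, i < 5 → j < 5 → i ≠ 0 → j ≠ 0 → ¬ IsConj x (x ^ i * y ^ j) := by
      intro i j hi hj hi0 hj0 h
      obtain ⟨n, m, hn1, hn2, hm⟩ : ∃ n m, i * n % 5 = 1 ∧ j * n % 5 = m ∧
          (m = 1 ∨ m = 2 ∨ m = 4 ∨ m = 3) := by
        interval_cases i <;> interval_cases j <;>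
          first
          | exact absurd rfl hi0
          | exact absurd rfl hj0
          | exact ⟨1, _, rfl, rfl, by norm_num⟩
          | exact ⟨3, _, rfl, rfl, by norm_num⟩
          | exact ⟨2, _, rfl, rfl, by norm_num⟩
          | exact ⟨4, _, rfl, rfl, by norm_num⟩
      have h1 := isConj_pow h n
      rw [(hxy.pow_pow i j).mul_pow, ← pow_mul, ← pow_mul, ← pow_mod_orderOf x (i * n),
        ← pow_mod_orderOf y (j * n), hx, hy, hn1, hn2, pow_one] at h1
      have hn0 : n % 5 ≠ 0 := fun e => by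
        have := hn1
        rw [Nat.mul_mod, e] at this
        simp at this
      have h2 : IsConj x (x * y ^ m) := (hpowx n hn0).trans h1
      have h3 : IsConj (x * y ^ 3) (x * y) := by
        have := hdouble 3
        rwa [show 2 * 3 = 5 + 1 from rfl, pow_add, hy5, one_mul, pow_one] at this
      have h4 : IsConj (x * y ^ 4) (x * y ^ 3) := by
        have := hdouble 4
        rwa [show 2 * 4 = 5 + 3 from rfl, pow_add, hy5, one_mul] at this
      rcases hm with rfl | rfl | rfl | rfl
      · exact hno (by rwa [pow_one] at h2)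
      · exact hno (h2.trans ((hdouble 2).trans (h4.trans h3)))
      · exact hno (h2.trans (h4.trans h3))
      · exact hno (h2.trans h3)
    let X := {w : G // IsConj x w}
    let act : MulAction P X :=
      { smul := fun p w => ⟨p * w * (p : G)⁻¹, w.2.trans (isConj_iff.mpr ⟨p, rfl⟩)⟩
        one_smul := fun w => Subtype.ext (by
          show (1 : G) * w * (1 : G)⁻¹ = w
          simp)
        mul_smul := fun p q w => Subtype.ext (by
          show ((p : G) * q) * w * ((p : G) * q)⁻¹ = p * (q * w * (q : G)⁻¹) * (p : G)⁻¹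
          group) }
    have hmod := hPp.card_modEq_card_fixedPoints (α := X)
    have hfix : ∀ w : X, w ∈ MulAction.fixedPoints P X → (w : G) ∈ P := by
      intro w hw
      have hwo : orderOf (w : G) = 5 := by
        obtain ⟨h, hh⟩ := isConj_iff.mp w.2
        rw [← hh]
        exact ((MulAut.conj h).orderOf_eq x).trans hx
      have hcom : ∀ p ∈ P, Commute (w : G) p := fun p hp => by
        have := congrArg Subtype.val (hw ⟨p, hp⟩)
        exact (mul_inv_eq_iff_eq_mul.mp this).symm
      let F' : Subgroup.zpowers (w : G) × P →* G := MonoidHom.noncommCoprod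
        (Subgroup.zpowers (w : G)).subtype P.subtype fun b p => by
          obtain ⟨k, hk⟩ := b.2
          rw [Subgroup.coe_subtype, Subgroup.coe_subtype, ← hk]
          exact (hcom p p.2).zpow_left k
      have hR : IsPGroup 5 F'.range := IsPGroup.of_card_dvd_pow (n := 3)
        ((Subgroup.card_range_dvd F').trans (by
          rw [Nat.card_prod, Nat.card_zpowers, hwo, hPc]; norm_num))
      have hle : P ≤ F'.range := fun p hp => ⟨(1, ⟨p, hp⟩), by simp [F']⟩
      rw [Subgroup.eq_of_le_of_card_ge hle (hPc.symm ▸ hmax hR)]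
      exact ⟨(⟨w, Subgroup.mem_zpowers _⟩, 1), by simp [F']⟩
    let S : Finset (ℕ × ℕ) :=
      (Finset.range 5 ×ˢ Finset.range 5).filter fun q => q ≠ (0, 0) ∧ (q.1 = 0 ∨ q.2 = 0)
    have hS : S.card = 8 := by decide
    have hcardfix : Nat.card (MulAction.fixedPoints P X) = 8 := by
      rw [← hS, ← Nat.card_eq_finsetCard]
      have hok : ∀ q : S, IsConj x (x ^ q.1.1 * y ^ q.1.2) := fun q => by
        have hq := q.2
        simp only [S, Finset.mem_filter, Finset.mem_product, Finset.mem_range, ne_eq,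
          Prod.ext_iff] at hq
        obtain ⟨⟨h1, h2⟩, hne', h0⟩ := hq
        rcases h0 with h0 | h0
        · rw [h0, pow_zero, one_mul]
          exact hpowy _ (by rw [Nat.mod_eq_of_lt h2]; exact fun e => hne' ⟨h0, e⟩)
        · rw [h0, pow_zero, mul_one]
          exact hpowx _ (by rw [Nat.mod_eq_of_lt h1]; exact fun e => hne' ⟨e, h0⟩)
      symm
      refine Nat.card_eq_of_bijective (fun q : S => (⟨⟨_, hok q⟩, fun p => Subtype.ext ?_⟩ :
        MulAction.fixedPoints P X)) ⟨fun q q' h => ?_, fun w => ?_⟩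
      · obtain ⟨i, -, j, -, hp⟩ := hmemP.mp p.2
        show (p : G) * _ * (p : G)⁻¹ = _
        rw [mul_inv_eq_iff_eq_mul, hp]
        exact ((((Commute.refl x).pow_pow i q.1.1).mul_left (hxy.symm.pow_pow j q.1.1)).mul_right
          ((hxy.pow_pow i q.1.2).mul_left ((Commute.refl y).pow_pow j q.1.2))).eq
      · have e : x ^ q.1.1 * y ^ q.1.2 = x ^ q'.1.1 * y ^ q'.1.2 :=
          congrArg (fun w : MulAction.fixedPoints P X => ((w : X) : G)) h
        have hinj := @hF (⟨x ^ q.1.1, Subgroup.npow_mem_zpowers x _⟩,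
            ⟨y ^ q.1.2, Subgroup.npow_mem_zpowers y _⟩)
          (⟨x ^ q'.1.1, Subgroup.npow_mem_zpowers x _⟩,
            ⟨y ^ q'.1.2, Subgroup.npow_mem_zpowers y _⟩) e
        simp only [Prod.ext_iff, Subtype.ext_iff] at hinj
        have hb := fun q : S => (Finset.mem_product.mp (Finset.mem_filter.mp q.2).1)
        simp only [Finset.mem_range] at hb
        exact Subtype.ext (Prod.ext
          (pow_injOn_Iio_orderOf (show q.1.1 < orderOf x by rw [hx]; exact (hb q).1)
            (show q'.1.1 < orderOf x by rw [hx]; exact (hb q').1) hinj.1)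
          (pow_injOn_Iio_orderOf (show q.1.2 < orderOf y by rw [hy]; exact (hb q).2)
            (show q'.1.2 < orderOf y by rw [hy]; exact (hb q').2) hinj.2))
      · obtain ⟨i, hi, j, hj, hp⟩ := hmemP.mp (hfix w.1 w.2)
        have hw := w.1.2
        rw [hp] at hw
        have hnz : (i, j) ≠ (0, 0) := fun e => by
          obtain ⟨rfl, rfl⟩ := Prod.mk.inj e
          rw [pow_zero, pow_zero, one_mul, isConj_one_left] at hw
          rw [hw, orderOf_one] at hx
          norm_num at hx
        have h0 : i = 0 ∨ j = 0 := by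
          by_contra h
          push Not at h
          exact hoff i j hi hj h.1 h.2 hw
        refine ⟨⟨(i, j), ?_⟩, Subtype.ext (Subtype.ext hp.symm)⟩
        simp only [S, Finset.mem_filter, Finset.mem_product, Finset.mem_range]
        exact ⟨⟨hi, hj⟩, hnz, h0⟩
    have hcardX : Nat.card X = (Subgroup.centralizer ({x} : Set G)).index := by
      rw [Subgroup.index_eq_card]
      symm
      refine Nat.card_eq_of_bijective (fun q => (⟨Quotient.out q * x * (Quotient.out q)⁻¹,
        isConj_iff.mpr ⟨_, rfl⟩⟩ : X)) ⟨fun q q' h => ?_, fun w => ?_⟩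
      · rw [← QuotientGroup.out_eq' q, ← QuotientGroup.out_eq' q', QuotientGroup.eq,
          Subgroup.mem_centralizer_singleton_iff]
        have h' := congrArg Subtype.val h
        simp only at h'
        calc (Quotient.out q)⁻¹ * Quotient.out q' * x
            = (Quotient.out q)⁻¹ * (Quotient.out q' * x * (Quotient.out q')⁻¹) *
              Quotient.out q' := by group
          _ = x * ((Quotient.out q)⁻¹ * Quotient.out q') := by rw [← h']; group
      · obtain ⟨h, hh⟩ := isConj_iff.mp w.2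
        refine ⟨QuotientGroup.mk h, Subtype.ext ?_⟩
        obtain ⟨k, hk⟩ := QuotientGroup.mk_out_eq_mul (Subgroup.centralizer ({x} : Set G)) h
        show Quotient.out (QuotientGroup.mk h : G ⧸ _) * x * _ = _
        rw [hk, ← hh]
        have := Subgroup.mem_centralizer_singleton_iff.mp k.2
        calc h * k * x * (h * (k : G))⁻¹ = h * ((k : G) * x) * (k : G)⁻¹ * h⁻¹ := by group
          _ = h * x * h⁻¹ := by rw [this]; group
    rw [hcardX, hcardfix] at hmod
    unfold Nat.ModEq at hmod
    omega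
  -- all elements
  have hall : ∀ p ∈ P, p ≠ 1 → IsConj x p := by
    intro p hp hp1
    obtain ⟨i, hi, j, hj, rfl⟩ := hmemP.mp hp
    rcases Nat.eq_zero_or_pos i with rfl | hi0
    · rw [pow_zero, one_mul] at hp1 ⊢
      exact hpowy j (by rw [Nat.mod_eq_of_lt hj]; exact fun e => hp1 (by rw [e, pow_zero]))
    rcases Nat.eq_zero_or_pos j with rfl | hj0
    · rw [pow_zero, mul_one]
      exact hpowx i (by rw [Nat.mod_eq_of_lt hi]; omega)
    obtain ⟨m, hm, hm'⟩ : ∃ m, (m = 1 ∨ m = 2 ∨ m = 4 ∨ m = 3) ∧ m * i % 5 = j := by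
      interval_cases i <;> interval_cases j <;>
        first
        | exact ⟨1, by norm_num, rfl⟩
        | exact ⟨2, by norm_num, rfl⟩
        | exact ⟨3, by norm_num, rfl⟩
        | exact ⟨4, by norm_num, rfl⟩
    have h2 : IsConj x (x * y ^ m) := by
      have a2 : IsConj x (x * y ^ 2) := by
        have := hxy1.trans (by simpa using hdouble 1)
        exact this
      have a4 : IsConj x (x * y ^ 4) := a2.trans (hdouble 2)
      rcases hm with rfl | rfl | rfl | rfl
      · simpa using hxy1
      · exact a2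
      · exact a4
      · have := a4.trans (hdouble 4)
        rwa [show 2 * 4 = 5 + 3 from rfl, pow_add, hy5, one_mul] at this
    have h3 := (hpowx i (by rw [Nat.mod_eq_of_lt hi]; omega)).trans (isConj_pow h2 i)
    rwa [(hxy.pow_right m).mul_pow, ← pow_mul, ← pow_mod_orderOf y (m * i), hy, hm'] at h3
  obtain ⟨R, hR⟩ := (IsPGroup.of_card (p := 5) (n := 1) (G := Subgroup.zpowers z)
    (by rw [Nat.card_zpowers, hz, pow_one])).exists_le_sylow
  obtain ⟨h, hh⟩ := MulAction.exists_smul_eq G R Q
  have hzP : h * z * h⁻¹ ∈ P := by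
    rw [hPQ, ← hh, Sylow.coe_subgroup_smul]
    exact Subgroup.smul_mem_pointwise_smul z (MulAut.conj h) _ (hR (Subgroup.mem_zpowers z))
  refine (hall _ hzP fun e => ?_).trans (isConj_iff.mpr ⟨h⁻¹, by group⟩)
  rw [conj_eq_one_iff] at e
  rw [e, orderOf_one] at hz
  norm_num at hz

end CfsgLib.Chev.E6Five
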