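import Cfsg.Agent.Chev.E6TwFive.Descent
import Cfsg.Agent.RadFree.Linear
import Cfsg.Agent.S0256
import Mathlib.LinearAlgebra.Matrix.GeneralLinearGroup.Card
import Mathlib.LinearAlgebra.Matrix.Transvection

/-!
The subsystem group over the field with two elements is `GL₄(2)`, which is `A₈`.
-/

set_option autoImplicit false

namespace CfsgLib.Chev.E6Five

open Cfsg.Lie Matrix Tab
open scoped MatrixGroups

local instance : Fact (Nat.Prime 2) := ⟨Nat.prime_two⟩

/-- The positive roots of the subsystem. -/
def A3pos : List ℕ := [39, 46, 47, 69, 70, 71]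

/-- The positive roots of the subsystem turned negative by an element of its Weyl group. -/
def flipA3 (M : List ℕ) : List ℕ :=
  A3pos.filter fun s => Nat.blt (Nat.mul 2 (E6Data.tab.wordT (stabWord M) s)) 72

/-- The roots spanning the natural module. -/
def W4 : List ℕ := [16, 57, 58, 61]

/-- The index of a basis vector of the natural module. -/
def eI (j : Fin 4) : chevE6.Idx :=
  Sum.inr ⟨W4.getD j.val 0, (by decide : ∀ j : Fin 4, W4.getD j.val 0 < chevE6.nroots) j⟩

/-- The natural module is invariant and the roots act on it by all transvections. -/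
def chkBlock : Bool :=
  (A3.all fun s => W4.all fun w =>
    allBelow (fun b => !((E6Data.tab.xMask s w).testBit b) || W4.contains b) (dim chevE6)) &&
  allBelow (fun i => allBelow (fun j => Nat.beq i j || A3.any fun s =>
    allBelow (fun a => allBelow (fun b =>
      (E6Data.tab.xMask s (W4.getD b 0)).testBit (W4.getD a 0) ==
        (Nat.beq a b || (Nat.beq a i && Nat.beq b j))) 4) 4) 4) 4

theorem chkBlock_ok : chkBlock = true := by decide +kernel

theorem A3pos_eq : ∀ s : Fin 72, s.val ∈ A3 → 72 ≤ 2 * s.val → s.val ∈ A3pos := by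
  decide +kernel

theorem count_eq :
    ∑ M ∈ stabToks.toFinset, 2 ^ 6 * 2 ^ (flipA3 M).toFinset.card = 20160 := by
  decide +kernel

theorem segProd_ext {F : Type*} [Field F] {S S' : Set ℕ} [DecidablePred (· ∈ S)]
    [DecidablePred (· ∈ S')] {f g : ℕ → F}
    (h : ∀ r, (if r ∈ S then f r else 0) = (if r ∈ S' then g r else 0)) :
    ∀ m k, good_E6.segProd S f k m = good_E6.segProd S' g k m := by
  classical
  intro m
  induction m with
  | zero => intro k; rfl
  | succ m ih =>
    intro k
    simp only [Good.segProd]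
    rw [ih]
    congr 1
    have := h k
    split_ifs with h1 h2 h2
    · rw [if_pos h1, if_pos h2] at this; rw [this]
    · rw [if_pos h1, if_neg h2] at this; rw [this, good_E6.full.x_zero]
    · rw [if_neg h1, if_pos h2] at this; rw [← this, good_E6.full.x_zero]
    · rfl

theorem x_entry {F : Type*} [Field F] [CharP F 2] {r : ℕ} (hr : r < 72) (x y : chevE6.Idx) :
    ((good_E6.full.x r (1 : F) : GL chevE6.Idx F) : Matrix chevE6.Idx chevE6.Idx F) x y =
      bitF F ((E6Data.tab.xMask r (code y)).testBit (code x)) := by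
  rw [good_E6.full.coe_x hr, Tab.xMask, bitF_vecMask, coeff_append, coeff_append, coeff_append]
  simp only [Tab.X, Finset.sum_range_succ, Finset.sum_range_zero, zero_add, Matrix.add_apply,
    Matrix.smul_apply, Matrix.map_apply, one_pow, one_smul, Int.cast_add]
  rw [← E6Data.tab.colP_eq 0 r (by omega) x y, ← E6Data.tab.colP_eq 1 r (by omega) x y,
    ← E6Data.tab.colP_eq 2 r (by omega) x y, ← E6Data.tab.colP_eq 3 r (by omega) x y]
  ring

theorem units_two (u : (ZMod 2)ˣ) : u = 1 := by revert u; decide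

theorem hT_two (c : Fin chevE6.rank → (ZMod 2)ˣ) : E6Data.tab.hT (ZMod 2) c = 1 := by
  rw [show c = 1 from funext fun i => units_two _, map_one]

theorem card_L2_le : Nat.card (L2 (ZMod 2)) ≤ 20160 := by
  classical
  let T := Σ M : ↥stabToks.toFinset,
    (↥A3pos.toFinset → ZMod 2) × (↥(flipA3 M.1).toFinset → ZMod 2)
  let ext0 : ∀ L : List ℕ, (↥L.toFinset → ZMod 2) → ℕ → ZMod 2 := fun L f r =>
    if h : r ∈ L.toFinset then f ⟨r, h⟩ else 0
  let Ψ : T → GL chevE6.Idx (ZMod 2) := fun p =>
    good_E6.segProd {r | r ∈ A3pos} (ext0 _ p.2.1) 0 chevE6.nroots *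
      good_E6.full.nw (ZMod 2) (stabList p.1.1) *
        good_E6.segProd {r | r ∈ flipA3 p.1.1} (ext0 _ p.2.2) 0 chevE6.nroots
  suffices h : (L2 (ZMod 2) : Set (GL chevE6.Idx (ZMod 2))) ⊆ Set.range Ψ by
    calc Nat.card (L2 (ZMod 2)) ≤ Nat.card (Set.range Ψ) :=
          Nat.card_mono (Set.finite_range Ψ) h
      _ ≤ Nat.card T := Finite.card_range_le Ψ
      _ = 20160 := by
        simp only [T, Nat.card_sigma, Nat.card_prod, Nat.card_fun, Nat.card_zmod,
          Nat.card_eq_finsetCard]
        rw [Finset.sum_coe_sort stabToks.toFinset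
          (fun M => 2 ^ A3pos.toFinset.card * 2 ^ (flipA3 M).toFinset.card),
          show A3pos.toFinset.card = 6 from rfl, count_eq]
  intro l hl
  obtain ⟨v, hv, d, L, u, hu, rfl⟩ := good_E6.normal_form (L2_le_group hl)
  rw [hT_two, mul_one] at hl ⊢
  -- the field with sixteen elements
  let E := GaloisField 2 4
  let : Fintype E := Fintype.ofFinite _
  have hE : Fintype.card E = 16 := by
    rw [← Nat.card_eq_fintype_card, GaloisField.card 2 4 (by norm_num)]; norm_num
  obtain ⟨σ, hσ⟩ : ∃ σ : E, σ ^ 2 + σ + 1 = 0 := by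
    obtain ⟨z, hz⟩ := @exists_prime_orderOf_dvd_card Eˣ _ _ 3 ⟨Nat.prime_three⟩
      (by rw [Fintype.card_units, hE]; norm_num)
    have h3 : (z : E) ^ 3 = 1 := by
      rw [← Units.val_pow_eq_pow_val, ← hz, pow_orderOf_eq_one, Units.val_one]
    have h1 : (z : E) ≠ 1 := fun e => by
      rw [Units.val_eq_one.mp e, orderOf_one] at hz; norm_num at hz
    exact ⟨z, mul_left_cancel₀ (sub_ne_zero.mpr h1) (by linear_combination h3)⟩
  obtain ⟨ζ, R⟩ := exists_roots hE hσ
  let f0 : ZMod 2 →+* E := ZMod.castHom (dvd_refl 2) E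
  have hmap : ∀ w ∈ L2 (ZMod 2), glMap chevE6 f0 w ∈ L2 E := by
    intro w hw
    have : L2 (ZMod 2) ≤ (L2 E).comap (glMap chevE6 f0) := by
      rw [L2, Subgroup.closure_le]
      rintro g ⟨s, hs, rfl⟩
      rw [SetLike.mem_coe, Subgroup.mem_comap, good_E6.glMap_x, map_one]
      exact x_mem_L2 hs
    exact this hw
  have hc : Commute (glMap chevE6 f0 v * E6Data.tab.hT E 1 * good_E6.full.nw E L *
      glMap chevE6 f0 u) R.t := by
    have := R.L2_t (hmap _ hl)
    rwa [map_mul, map_mul, good_E6.glMap_nw, ← mul_one (glMap chevE6 f0 v),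
      ← map_one (E6Data.tab.hT E)] at this
  have hvU : v ∈ good_E6.US (ZMod 2) {r | IsPos chevE6 r} := by rwa [← good_E6.posUnipotent_eq]
  obtain ⟨e1, e2, M, hM, hLM⟩ := comm_form R
    (by rw [good_E6.posUnipotent_eq]; exact good_E6.glMap_US f0 hvU)
    (good_E6.glMap_US f0 hu) hc
  -- the unipotent parts
  have key : ∀ {S : Set ℕ}, E6Data.tab.Closed S → ∀ {w : GL chevE6.Idx (ZMod 2)},
      w ∈ good_E6.US (ZMod 2) S → R.t * glMap chevE6 f0 w * R.t⁻¹ = glMap chevE6 f0 w →
      ∃ g : ℕ → ZMod 2, w = good_E6.segProd S g 0 chevE6.nroots ∧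
        ∀ r ∈ S, g r ≠ 0 → r ∈ A3pos ∨ ¬ IsPos chevE6 r := by
    intro S hS w hw he
    rw [← SetLike.mem_coe, good_E6.US_eq_range hS] at hw
    obtain ⟨g, rfl⟩ := hw
    refine ⟨g, rfl, fun r hr hg => ?_⟩
    by_cases hp : IsPos chevE6 r
    · rw [good_E6.glMap_segProd, Roots.t, good_E6.segProd_conj (fun s hs => (hS.1 s hs).1)] at he
      have h := good_E6.segProd_injective hS chevE6.nroots 0 _ _ (zero_add _) he r hr (Nat.zero_le _)
      have hne : f0 (g r) ≠ 0 := fun e => hg (f0.injective (by rw [e, map_zero]))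
      have hchi : E6Data.tab.chi (F := E) r R.cc = 1 :=
        Units.ext (mul_right_cancel₀ hne (by rw [Units.val_one, one_mul]; exact h))
      exact Or.inl (A3pos_eq ⟨r, hp.1⟩ (mem_A3 hp (R.chi_eq_one hchi)) hp.2)
    · exact Or.inr hp
  obtain ⟨g, rfl, hg⟩ := key good_E6.closed_pos hvU e1
  obtain ⟨g', rfl, hg'⟩ := key (good_E6.closed_flip L) hu e2
  have hLN : good_E6.full.nw (ZMod 2) L = good_E6.full.nw (ZMod 2) (stabList M) := by
    have hd : good_E6.full.nw (ZMod 2) L * (good_E6.full.nw (ZMod 2) (stabList M))⁻¹ ∈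
        chevE6.diagonalSubgroup (ZMod 2) :=
      good_E6.mem_diagonal_of_pos
        (mul_mem (good_E6.nw_mem_monomial _) (inv_mem (good_E6.nw_mem_monomial _)))
        (good_E6.rootAct_mul (good_E6.rootAct_nw L) (good_E6.rootAct_inv
          (good_E6.nw_mem_monomial _) (hLM ▸ good_E6.rootAct_nw (stabList M)))) fun s hs => by
            rw [mul_inv_cancel]; exact hs
    rw [good_E6.full.diagonal_eq_range] at hd
    obtain ⟨c, hc'⟩ := hd
    rw [hT_two] at hc'
    exact mul_inv_eq_one.mp hc'.symm
  refine ⟨⟨⟨M, List.mem_toFinset.mpr hM⟩, fun r => g r, fun r => g' r⟩, ?_⟩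
  simp only [Ψ]
  rw [hLN]
  have hsub : ∀ r ∈ A3pos, IsPos chevE6 r := fun r hr => by
    have : ∀ r ∈ A3pos, r < 72 ∧ 72 ≤ 2 * r := by decide
    exact this r hr
  refine congrArg₂ (· * ·) (congrArg₂ (· * ·) ?_ rfl) ?_
  · refine segProd_ext (fun r => ?_) _ _
    by_cases hr : r ∈ A3pos
    · simp [ext0, hr, hsub r hr]
    · by_cases hp : IsPos chevE6 r
      · have : g r = 0 := by
          by_contra h
          rcases hg r hp h with h' | h'
          exacts [hr h', h' hp]
        simp [hr, hp, this]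
      · simp [hr, hp]
  · refine segProd_ext (fun r => ?_) _ _
    have hflip : r ∈ flipA3 M ↔ r ∈ A3pos ∧ r ∈ flipSet (good_E6.full.pw L) := by
      simp only [flipA3, List.mem_filter, Nat.blt_eq]
      refine and_congr_right fun hr => ?_
      obtain ⟨hlt, hle⟩ := hsub r hr
      rw [hLM]
      constructor
      · intro h
        refine ⟨hlt, ⟨hlt, hle⟩, fun h' => ?_⟩
        have := h'.2
        rw [good_E6.pw_apply, stabList_val hM] at this
        exact absurd h (Nat.not_lt.mpr this)
      · rintro ⟨_, -, h⟩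
        refine not_le.mp fun h' => h ⟨Fin.isLt _, ?_⟩
        rw [good_E6.pw_apply, stabList_val hM]
        exact h'
    by_cases hr : r ∈ flipSet (good_E6.full.pw L)
    · by_cases hA : r ∈ A3pos
      · simp [ext0, hflip, hr, hA]
      · have : g' r = 0 := by
          by_contra h
          rcases hg' r hr h with h' | h'
          · exact hA h'
          · obtain ⟨hlt, hpos, -⟩ := hr
            exact h' hpos
        simp [hflip, hr, hA, this]
    · simp [hflip, hr]

/-- The matrix of an element of the subsystem group on the natural module. -/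
def blockM {F : Type*} [Field F] (g : GL chevE6.Idx F) : Matrix (Fin 4) (Fin 4) F :=
  (g : Matrix chevE6.Idx chevE6.Idx F).submatrix eI eI

/-- The natural module is invariant. -/
def BlockInv {F : Type*} [Field F] (g : GL chevE6.Idx F) : Prop :=
  ∀ b ∉ Set.range eI, ∀ j, (g : Matrix chevE6.Idx chevE6.Idx F) b (eI j) = 0

theorem eI_injective : Function.Injective eI := by
  unfold Function.Injective; decide

theorem blockInv_of_mem {g : GL chevE6.Idx (ZMod 2)} (hg : g ∈ L2 (ZMod 2)) : BlockInv g := by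
  have hx : ∀ s ∈ A3, BlockInv (good_E6.full.x s (1 : ZMod 2)) := fun s hs b hb j => by
    rw [x_entry (A3_spec hs).1]
    have h := chkBlock_ok
    simp only [chkBlock, Bool.and_eq_true, List.all_eq_true, allBelow_iff, Bool.or_eq_true,
      Bool.not_eq_true', List.contains_iff_mem] at h
    have hw : code (eI j) ∈ W4 :=
      (by decide : ∀ j : Fin 4, code (eI j) ∈ W4) j
    rcases h.1 s hs _ hw (code b) (code_lt b) with h' | h'
    · rw [h']; rfl
    · refine absurd ?_ hb
      obtain ⟨i, hi⟩ : ∃ i : Fin 4, code (eI i) = code b :=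
        (by decide : ∀ w ∈ W4, ∃ i : Fin 4, code (eI i) = w) _ h'
      exact ⟨i, code_injective hi⟩
  induction hg using Subgroup.closure_induction'' with
  | mem x h => obtain ⟨s, hs, rfl⟩ := h; exact hx s hs
  | inv_mem x h =>
    obtain ⟨s, hs, rfl⟩ := h
    rw [good_E6.full.x_inv, CharTwo.neg_eq]
    exact hx s hs
  | one =>
    intro b hb j
    rw [Units.val_one, Matrix.one_apply_ne fun e => hb ⟨j, e.symm⟩]
  | mul x y _ _ hx hy =>
    intro b hb j
    rw [Units.val_mul, Matrix.mul_apply]
    refine Finset.sum_eq_zero fun c _ => ?_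
    by_cases hc : c ∈ Set.range eI
    · obtain ⟨i, rfl⟩ := hc; rw [hx b hb i, zero_mul]
    · rw [hy c hc j, mul_zero]

theorem blockM_mul {a b : GL chevE6.Idx (ZMod 2)} (hb : BlockInv b) :
    blockM (a * b) = blockM a * blockM b := by
  ext i j
  simp only [blockM, Matrix.submatrix_apply, Units.val_mul, Matrix.mul_apply]
  exact (Finset.sum_of_injOn eI eI_injective.injOn (fun _ _ => Finset.mem_univ _)
    (fun c _ hc => by rw [hb c (by simpa using hc) j, mul_zero]) fun _ _ => rfl).symm

/-- The representation of the subsystem group on the natural module. -/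
noncomputable def toGL4 : L2 (ZMod 2) →* GL (Fin 4) (ZMod 2) :=
  MonoidHom.toHomUnits
    { toFun := fun g => blockM g.1
      map_one' := by
        ext i j
        simp [blockM, Matrix.one_apply, eI_injective.eq_iff]
      map_mul' := fun a b => blockM_mul (blockInv_of_mem b.2) }

theorem toGL4_surjective : Function.Surjective toGL4 := by
  classical
  intro g
  let P : Matrix (Fin 4) (Fin 4) (ZMod 2) → Prop := fun A => ∃ l : L2 (ZMod 2), blockM l.1 = A
  have h1 : P 1 := ⟨1, by ext i j; simp [blockM, Matrix.one_apply, eI_injective.eq_iff]⟩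
  have hg : P (g : Matrix (Fin 4) (Fin 4) (ZMod 2)) := by
    refine Matrix.diagonal_transvection_induction_of_det_ne_zero P _
      (Matrix.GeneralLinearGroup.det g).ne_zero (fun D hD => ?_) (fun t => ?_)
      fun A B _ _ ⟨a, ha⟩ ⟨b, hb⟩ => ⟨a * b, by
        rw [Subgroup.coe_mul, blockM_mul (blockInv_of_mem b.2), ha, hb]⟩
    · have : D = fun _ => 1 := funext fun i => by
        rw [Matrix.det_diagonal, Finset.prod_ne_zero_iff] at hD
        exact (by decide : ∀ a : ZMod 2, a ≠ 0 → a = 1) _ (hD i (Finset.mem_univ _))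
      rw [this, Matrix.diagonal_one]
      exact h1
    · obtain ⟨i, j, hij, c⟩ := t
      rcases (by decide : ∀ a : ZMod 2, a = 0 ∨ a = 1) c with rfl | rfl
      · simpa [TransvectionStruct.toMatrix] using h1
      have h := chkBlock_ok
      simp only [chkBlock, Bool.and_eq_true, allBelow_iff, Bool.or_eq_true, Nat.beq_eq,
        List.any_eq_true, beq_iff_eq] at h
      rcases h.2 i.val i.isLt j.val j.isLt with e | ⟨s, hs, he⟩
      · exact absurd (Fin.ext e) hij
      refine ⟨⟨_, x_mem_L2 hs⟩, ?_⟩
      ext a b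
      have e := he a.val a.isLt b.val b.isLt
      simp only [blockM, Matrix.submatrix_apply, x_entry (A3_spec hs).1,
        TransvectionStruct.toMatrix, Matrix.transvection, Matrix.add_apply, Matrix.one_apply,
        Matrix.single_apply]
      rw [show code (eI b) = W4.getD b.val 0 from rfl, show code (eI a) = W4.getD a.val 0 from rfl, e]
      exact (by decide : ∀ i j a b : Fin 4, i ≠ j →
        bitF (ZMod 2) (Nat.beq a.val b.val || (Nat.beq a.val i.val && Nat.beq b.val j.val)) =
          (if a = b then (1 : ZMod 2) else 0) + if i = a ∧ j = b then 1 else 0) i j a b hij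
  obtain ⟨l, hl⟩ := hg
  exact ⟨l, Units.ext hl⟩

/-- The subsystem group over the field with two elements is `GL₄(2)`. -/
theorem toGL4_bijective : Function.Bijective toGL4 := by
  refine (Nat.bijective_iff_surjective_and_card _).mpr ⟨toGL4_surjective, ?_⟩
  refine le_antisymm ?_ (Nat.card_le_card_of_surjective _ toGL4_surjective)
  rw [Matrix.card_GL_field, Fintype.card_congr (Equiv.refl (ZMod 2))]
  simpa [Fin.prod_univ_four] using card_L2_le

/-- The subsystem group is the alternating group of degree eight. -/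
theorem L2_alt {K : Type*} [Field K] [CharP K 2] :
    Nonempty (L2 K ≃* alternatingGroup (Fin 8)) := by
  obtain ⟨e8⟩ := Cfsg.Agent.S0256.result (F := ZMod 2) (ZMod.card 2)
  obtain ⟨eg⟩ := CfsgLib.RadFree.gl_equiv_psl 4
  let f : ZMod 2 →+* K := ZMod.castHom (dvd_refl 2) K
  have e : L2 K = (L2 (ZMod 2)).map (glMap chevE6 f) := by
    refine le_antisymm (L2_le_map f) ?_
    rw [Subgroup.map_le_iff_le_comap, L2, Subgroup.closure_le]
    rintro g ⟨s, hs, rfl⟩
    rw [SetLike.mem_coe, Subgroup.mem_comap, good_E6.glMap_x, map_one]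
    exact x_mem_L2 hs
  exact ⟨(MulEquiv.subgroupCongr e).trans
    (((L2 (ZMod 2)).equivMapOfInjective _ (glMap_injective f)).symm.trans
      ((MulEquiv.ofBijective toGL4 toGL4_bijective).trans (eg.trans e8)))⟩

end CfsgLib.Chev.E6Five
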