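import Cfsg.Agent.Chev.E6TwFive.Levi
import Cfsg.Agent.Chev.E6TwFive.Fusion

/-!
The elements of order five of `²E₆(2)`: they form one class, with centraliser `5 × A₈`.
-/

set_option autoImplicit false

namespace CfsgLib.Chev.E6Five

open Cfsg.Lie Matrix Tab Quart E6Tw
open scoped MatrixGroups

theorem inv_chk : chkEq E6Data.tab (pairsW (tokPairs 3 ++ xPairs))
    (pairsW (xPairs ++ xPairs ++ xPairs ++ xPairs ++ tokPairs 3)) = true := by
  decide +kernel

theorem tokPairs_lt : ∀ p ∈ tokPairs 3, p.1 < 72 ∧ (piN p.1 = p.1 → p.2 = 0) := by decide +kernel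

theorem gPairs_lt : ∀ p ∈ gPairs, p.1 < 72 ∧ (piN p.1 = p.1 → p.2 = 0) := by decide +kernel

theorem yPairs_A3 : ∀ p ∈ yPairs, p.1 ∈ A3 ∧ p.2 = 0 := by decide

variable {K : Type*} [Field K] [Fintype K] [CharP K 2] (C : Ctx K 2)

omit [Fintype K] in
theorem el_pairsW_append {τ : K} (A B : List (ℕ × ℕ)) :
    el good_E6 τ (pairsW (A ++ B)) = el good_E6 τ (pairsW A) * el good_E6 τ (pairsW B) := by
  rw [pairsW, List.flatMap_append, el_append]
  rfl

include C in
theorem order_five :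
    (∀ x y : C.Z.G1, orderOf x = 5 → orderOf y = 5 → IsConj x y) ∧
      ∀ x : C.Z.G1, orderOf x = 5 →
        Nonempty (↥(Subgroup.centralizer ({x} : Set C.Z.G1)) ≃*
          (Multiplicative (ZMod 5) × ↥(alternatingGroup (Fin 8)))) := by
  classical
  have : Fact (Nat.Prime 5) := ⟨by norm_num⟩
  obtain ⟨τ, hτ⟩ := exists_quart C
  obtain ⟨hx5, hgx, hxy, hx1, hy1, hy_1, hy_2, hy_3, hy_4⟩ := witness_chk
  obtain ⟨e8⟩ := L2_alt (K := K)
  -- the elements
  set xm : GL chevE6.Idx K := xEl τ with hxm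
  set ym : GL chevE6.Idx K := el good_E6 τ (pairsW yPairs) with hym
  have hy2 : ym ∈ L2 K := by
    rw [hym, el_pairsW hτ]
    refine list_prod_mem fun g hg => ?_
    obtain ⟨p, hp, rfl⟩ := List.mem_map.mp hg
    obtain ⟨hs, hk⟩ := yPairs_A3 p hp
    rw [hk, pow_zero, pairEl, if_pos (A3_spec hs).2.1]
    exact x_mem_L2 hs
  let x : C.Z.G1 := ⟨xm, xEl_mem C hτ⟩
  let y : C.Z.G1 := ⟨ym, L2_mem C hτ hy2⟩
  let g : C.Z.G1 := ⟨el good_E6 τ (pairsW gPairs), pairs_mem C hτ gPairs_lt⟩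
  let a : C.Z.G1 := ⟨el good_E6 τ (pairsW (tokPairs 3)), pairs_mem C hτ tokPairs_lt⟩
  have pow2 : el good_E6 τ (pairsW (xPairs ++ xPairs)) = xm ^ 2 := by
    rw [el_pairsW_append, hxm, xEl, pow_two]
  have pow3 : el good_E6 τ (pairsW (xPairs ++ xPairs ++ xPairs)) = xm ^ 3 := by
    rw [el_pairsW_append, pow2, pow_succ xm 2]; rfl
  have pow4 : el good_E6 τ (pairsW (xPairs ++ xPairs ++ xPairs ++ xPairs)) = xm ^ 4 := by
    rw [el_pairsW_append, pow3, pow_succ xm 3]; rfl
  have hxpow : xm ^ 5 = 1 := by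
    rw [pow_succ, ← pow4, hxm, xEl, ← el_pairsW_append]
    exact (el_eq good_E6 τ hτ hx5).trans (el_nil good_E6 τ)
  have hxne : xm ≠ 1 := fun e => el_ne good_E6 τ hτ hx1 (e.trans (el_nil good_E6 τ).symm)
  have hxo : orderOf x = 5 := orderOf_eq_prime (Subtype.ext hxpow) fun e => hxne (congrArg Subtype.val e)
  have hgconj : g * x * g⁻¹ = y := by
    rw [mul_inv_eq_iff_eq_mul]
    refine Subtype.ext ?_
    show el good_E6 τ (pairsW gPairs) * xm = ym * el good_E6 τ (pairsW gPairs)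
    rw [hxm, xEl, hym, ← el_pairsW_append, ← el_pairsW_append]
    exact el_eq good_E6 τ hτ hgx
  have hyo : orderOf y = 5 := by
    rw [← hgconj]
    exact ((MulAut.conj g).orderOf_eq x).trans hxo
  have haconj : a * x * a⁻¹ = x⁻¹ := by
    have e4 : x ^ 4 = x⁻¹ := eq_inv_of_mul_eq_one_left
      (by rw [← pow_succ]; exact Subtype.ext hxpow)
    rw [← e4, mul_inv_eq_iff_eq_mul]
    refine Subtype.ext ?_
    show el good_E6 τ (pairsW (tokPairs 3)) * xm = xm ^ 4 * el good_E6 τ (pairsW (tokPairs 3))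
    rw [← pow4, hxm, xEl, ← el_pairsW_append, ← el_pairsW_append]
    exact el_eq good_E6 τ hτ inv_chk
  -- the subsystem group
  set L : Subgroup C.Z.G1 := (L2 K).subgroupOf C.Z.G1
  let eL : L ≃* alternatingGroup (Fin 8) :=
    (Subgroup.subgroupOfEquivOfLe (L2_mem C hτ)).trans e8
  have hcomm : ∀ l ∈ L, Commute l x := fun l hl => Subtype.ext (L2_commute hτ hl).eq
  have hxyc : Commute x y := (hcomm y (Subgroup.mem_subgroupOf.mpr hy2)).symm
  have hne : y ∉ Subgroup.zpowers x := by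
    intro h
    rw [← mem_powers_iff_mem_zpowers, mem_powers_iff_mem_range_orderOf, Finset.mem_image, hxo] at h
    obtain ⟨k, hk, e⟩ := h
    have e' : xm ^ k = ym := congrArg Subtype.val e
    rw [Finset.mem_range] at hk
    interval_cases k
    · exact el_ne good_E6 τ hτ hy1 ((el_nil good_E6 τ).trans (pow_zero xm).symm |>.trans e').symm
    · exact el_ne good_E6 τ hτ hy_1 ((pow_one xm).symm.trans e').symm
    · exact el_ne good_E6 τ hτ hy_2 (pow2.trans e').symm
    · exact el_ne good_E6 τ hτ hy_3 (pow3.trans e').symm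
    · exact el_ne good_E6 τ hτ hy_4 (pow4.trans e').symm
  have hform : ∀ c : C.Z.G1, Commute c x → ∃ j : ℕ, ∃ l ∈ L, c = x ^ j * l := by
    intro c hc
    obtain ⟨j, l, hl, e⟩ := cent_form C hτ c.2 (congrArg Subtype.val hc.eq)
    exact ⟨j, ⟨l, L2_mem C hτ hl⟩, Subgroup.mem_subgroupOf.mpr hl, Subtype.ext e⟩
  obtain ⟨eC⟩ := centralizer_equiv hxo eL hcomm hform
  -- an element fusing `y` and its square
  let yl : L := ⟨y, Subgroup.mem_subgroupOf.mpr hy2⟩
  have hyl : orderOf (eL yl) = 5 := by rw [eL.orderOf_eq, ← Subgroup.orderOf_coe]; exact hyo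
  obtain ⟨c8, hc8⟩ := isConj_iff.mp (alt_sq hyl)
  obtain ⟨c, rfl⟩ := eL.surjective c8
  rw [← map_inv, ← map_mul, ← map_mul, ← map_pow, eL.injective.eq_iff] at hc8
  have hcy : (c : C.Z.G1) * y * (c : C.Z.G1)⁻¹ = y ^ 2 := congrArg Subtype.val hc8
  -- the orders
  have : Finite (GL chevE6.Idx K) := inferInstance
  have hcardC : Nat.card (Subgroup.centralizer ({x} : Set C.Z.G1)) = 100800 := by
    rw [Nat.card_congr eC.toEquiv, Nat.card_prod, nat_card_alternatingGroup, Nat.card_fin,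
      Nat.card_congr Multiplicative.toAdd, Nat.card_zmod]
    norm_num [Nat.factorial]
  have hG := C.card_group
  have hidx := Subgroup.card_mul_index (Subgroup.centralizer ({x} : Set C.Z.G1))
  rw [hcardC] at hidx
  norm_num [-Nat.card_eq_fintype_card] at hG
  have hdvd : ¬ 125 ∣ Nat.card C.Z.G1 := by
    rintro ⟨m, hm⟩
    omega
  have hconj := all_conj hxo hyo hxyc hne hgconj haconj (hcomm c c.2) hcy hdvd (by omega)
  refine ⟨fun u v hu hv => (hconj u hu).symm.trans (hconj v hv), fun u hu => ?_⟩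
  obtain ⟨h, hh⟩ := isConj_iff.mp (hconj u hu)
  have e : (Subgroup.centralizer ({x} : Set C.Z.G1)).map (MulAut.conj h).toMonoidHom =
      Subgroup.centralizer ({u} : Set C.Z.G1) := by
    ext w
    rw [Subgroup.mem_map_equiv, Subgroup.mem_centralizer_singleton_iff,
      Subgroup.mem_centralizer_singleton_iff, MulAut.conj_symm_apply, ← hh]
    constructor
    · intro hw
      calc w * (h * x * h⁻¹) = h * (h⁻¹ * w * h * x) * h⁻¹ := by group
        _ = h * x * h⁻¹ * w := by rw [hw]; group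
    · intro hw
      calc h⁻¹ * w * h * x = h⁻¹ * (w * (h * x * h⁻¹)) * h := by group
        _ = x * (h⁻¹ * w * h) := by rw [hw]; group
  exact ⟨(MulEquiv.subgroupCongr e).symm.trans
    (((MulAut.conj h).subgroupMap _).symm.trans eC)⟩

end CfsgLib.Chev.E6Five
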