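import Cfsg.Agent.Chev.E6TwFive.Tables
import Cfsg.Agent.Chev.G2OddCent
import Mathlib.FieldTheory.Finite.GaloisField

/-!
The element of order five of `²E₆(2)` as the conjugate of an element of the torus, over a field
with sixteen elements.
-/

set_option autoImplicit false

namespace CfsgLib.Chev.E6Five

open Cfsg.Lie Matrix Tab Quart
open scoped MatrixGroups

/-- The group of the subsystem over the prime field. -/
noncomputable def L2 (F : Type*) [Field F] : Subgroup (GL chevE6.Idx F) :=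
  Subgroup.closure {g | ∃ s ∈ A3, g = good_E6.full.x s 1}

/-- The fundamental subgroup of the first root. -/
noncomputable def hom0 (F : Type*) [Field F] : SL(2, F) →* GL chevE6.Idx F :=
  (good_E6.rankOne F i0).hom

/-- The fundamental subgroup of the last root. -/
noncomputable def hom5 (F : Type*) [Field F] : SL(2, F) →* GL chevE6.Idx F :=
  (good_E6.rankOne F i5).hom

/-- The action of the Frobenius map on matrices. -/
noncomputable def frobM (F : Type*) [Field F] [CharP F 2] : SL(2, F) →* SL(2, F) :=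
  Matrix.SpecialLinearGroup.map (frobenius F 2)

section Hom

variable {F : Type*} [Field F] [CharP F 2]

theorem frobM_apply (a : SL(2, F)) (p q : Fin 2) : frobM F a p q = (a p q) ^ 2 := rfl

omit [CharP F 2] in
theorem outer_eq : (chevE6.simple (i0 : ℕ) = 56 ∧ negR chevE6 (chevE6.simple (i0 : ℕ)) = 15) ∧
    chevE6.simple (i5 : ℕ) = 36 ∧ negR chevE6 (chevE6.simple (i5 : ℕ)) = 35 :=
  ⟨simple_vals.1, simple_vals.2.1⟩

theorem hom_commute (a b : SL(2, F)) : Commute (hom0 F a) (hom5 F b) := by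
  obtain ⟨⟨e1, e2⟩, e3, e4⟩ := outer_eq
  have key : ∀ r, r = 56 ∨ r = 15 → ∀ v, hom5 F b ∈
      Subgroup.centralizer ({good_E6.full.x r v} : Set (GL chevE6.Idx F)) := by
    intro r hr v
    have hc : ∀ r', r' = 36 ∨ r' = 35 → ∀ u, good_E6.full.x r' u ∈
        Subgroup.centralizer ({good_E6.full.x r v} : Set (GL chevE6.Idx F)) := by
      intro r' hr' u
      rw [Subgroup.mem_centralizer_singleton_iff]
      exact (good_E6.x_commute (p := 2) (CharP.cast_eq_zero F 2) (outer_commute hr hr') v u).eq.symm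
    exact good_E6.hom_mem i5 (fun u => by rw [e3]; exact hc _ (Or.inl rfl) u)
      (fun u => by rw [e4]; exact hc _ (Or.inr rfl) u) b
  have : hom0 F a ∈ Subgroup.centralizer ({hom5 F b} : Set (GL chevE6.Idx F)) := by
    refine good_E6.hom_mem i0 (fun u => ?_) (fun u => ?_) a
    · rw [e1, Subgroup.mem_centralizer_singleton_iff]
      exact (Subgroup.mem_centralizer_singleton_iff.mp (key _ (Or.inl rfl) u)).symm
    · rw [e2, Subgroup.mem_centralizer_singleton_iff]
      exact (Subgroup.mem_centralizer_singleton_iff.mp (key _ (Or.inr rfl) u)).symm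
  exact Subgroup.mem_centralizer_singleton_iff.mp this

theorem L2_commute_hom {l : GL chevE6.Idx F} (hl : l ∈ L2 F) (a b : SL(2, F)) :
    Commute l (hom0 F a * hom5 F b) := by
  obtain ⟨⟨e1, e2⟩, e3, e4⟩ := outer_eq
  have : L2 F ≤ Subgroup.centralizer ({hom0 F a * hom5 F b} : Set (GL chevE6.Idx F)) := by
    rw [L2, Subgroup.closure_le]
    rintro g ⟨s, hs, rfl⟩
    have hx : ∀ r ∈ outer, ∀ u, good_E6.full.x r u ∈
        Subgroup.centralizer ({good_E6.full.x s 1} : Set (GL chevE6.Idx F)) := fun r hr u => by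
      rw [Subgroup.mem_centralizer_singleton_iff]
      exact (good_E6.x_commute (p := 2) (CharP.cast_eq_zero F 2)
        ((A3_spec hs).2.2.2.2 r hr) 1 u).eq.symm
    have h : hom0 F a * hom5 F b ∈
        Subgroup.centralizer ({good_E6.full.x s 1} : Set (GL chevE6.Idx F)) := mul_mem
      (good_E6.hom_mem i0 (fun u => hx _ (by simp [e1, outer]) u)
        (fun u => hx _ (by simp [e2, outer]) u) a)
      (good_E6.hom_mem i5 (fun u => hx _ (by simp [e3, outer]) u)
        (fun u => hx _ (by simp [e4, outer]) u) b)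
    rw [SetLike.mem_coe, Subgroup.mem_centralizer_singleton_iff]
    exact (Subgroup.mem_centralizer_singleton_iff.mp h).symm
  exact Subgroup.mem_centralizer_singleton_iff.mp (this hl)

omit [CharP F 2] in
theorem L2_le_group : L2 F ≤ chevE6.group F := by
  rw [L2, Subgroup.closure_le]
  rintro g ⟨s, -, rfl⟩
  exact good_E6.x_mem_group _ _

variable {Φ : good_E6.Graph F} (S : Sq Φ)
include S

theorem rho_i0 : Φ.ρ i0 = i5 ∧ Φ.ρ i5 = i0 :=
  ⟨Fin.ext (by rw [S.hρ]; rfl), Fin.ext (by rw [S.hρ]; rfl)⟩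

theorem A_hom (i : Fin chevE6.rank) (a : SL(2, F)) :
    Φ.A ((good_E6.rankOne F i).hom a) = (good_E6.rankOne F (Φ.ρ i)).hom (frobM F a) := by
  have hf : ∀ p q : Fin 2, frobM F a p q = (a p q) ^ 2 := fun p q => rfl
  have hX : ∀ t, Φ.A (good_E6.full.x (chevE6.simple i) t) =
      good_E6.full.x (chevE6.simple (Φ.ρ i)) (t ^ 2) := fun t => by
    rw [show chevE6.simple i.val = (good_E6.full.simp' i).val from rfl, Φ.A_x, Φ.simp, S.hf]
    rfl
  have hH : ∀ t : F, t ≠ 0 → Φ.A (good_E6.full.hr (chevE6.simple i) t) =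
      good_E6.full.hr (chevE6.simple (Φ.ρ i)) (t ^ 2) := fun t ht => by
    rw [Φ.A_hr i ht, S.hf]
  have hg : ∀ t, good_E6.full.x (chevE6.simple i) t ∈ chevE6.group F := fun t =>
    good_E6.x_mem_group _ _
  have hgH : ∀ t, good_E6.full.hr (chevE6.simple i) t ∈ chevE6.group F := fun t =>
    mul_mem (good_E6.nr_mem_group _ _) (good_E6.nr_mem_group _ _)
  have hgN : good_E6.full.ns F i ∈ chevE6.group F := good_E6.ns_mem_group i
  show Φ.A ((good_E6.rankOne F i).phi a) = (good_E6.rankOne F (Φ.ρ i)).phi (frobM F a)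
  by_cases hc : a 1 0 = 0
  · have ha : a 0 0 ≠ 0 := fun h => by simpa [h, hc] using RankOne.det_eq a
    rw [RankOne.phi_zero _ hc, RankOne.phi_zero _ (by rw [hf, hc]; simp)]
    show Φ.A (good_E6.full.hr (chevE6.simple i) _ * good_E6.full.x (chevE6.simple i) _) =
      good_E6.full.hr (chevE6.simple (Φ.ρ i)) _ * good_E6.full.x (chevE6.simple (Φ.ρ i)) _
    rw [Φ.A_mul (hgH _) (hg _), hH _ ha, hX, hf, hf, div_pow]
  · rw [RankOne.phi_ne _ hc, RankOne.phi_ne _ (by rw [hf]; exact pow_ne_zero 2 hc)]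
    show Φ.A (good_E6.full.x (chevE6.simple i) _ * good_E6.full.hr (chevE6.simple i) _ *
        good_E6.full.ns F i * good_E6.full.x (chevE6.simple i) _) =
      good_E6.full.x (chevE6.simple (Φ.ρ i)) _ * good_E6.full.hr (chevE6.simple (Φ.ρ i)) _ *
        good_E6.full.ns F (Φ.ρ i) * good_E6.full.x (chevE6.simple (Φ.ρ i)) _
    rw [Φ.A_mul (mul_mem (mul_mem (hg _) (hgH _)) hgN) (hg _),
      Φ.A_mul (mul_mem (hg _) (hgH _)) hgN, Φ.A_mul (hg _) (hgH _), hX, hX,
      hH _ (neg_ne_zero.mpr (inv_ne_zero hc)), Φ.A_ns, hf, hf, hf, div_pow, div_pow,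
      CharTwo.neg_eq, CharTwo.neg_eq, inv_pow]

end Hom

section Conj

variable {E : Type*} [Field E] [CharP E 2]

/-- The element of order five as a product of two matrices. -/
noncomputable def M0 (τ : E) : SL(2, E) := RankOne.eX τ * RankOne.eN

/-- The parameters: a root of unity of order five over the roots of unity of order three. -/
structure Roots (τ ζ : E) : Prop where
  tau : τ ^ 2 + τ + 1 = 0
  sum : ζ + ζ ^ 4 = τ
  pow : ζ ^ 5 = 1

namespace Roots

variable {τ ζ : E} (R : Roots τ ζ)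
include R

theorem z_ne : ζ ≠ 0 := fun h => by simpa [h] using R.pow

/-- The diagonalising matrix. -/
def g1 : SL(2, E) :=
  ⟨!![τ * ζ, τ * ζ ^ 4; τ, τ], by
    rw [Matrix.det_fin_two_of, ← sub_mul, CharTwo.sub_eq_add, ← mul_add, R.sum, ← pow_two,
      ← pow_succ]
    linear_combination (τ - 1) * R.tau⟩

/-- The root of unity as a unit. -/
def zu : Eˣ := Units.mk0 ζ R.z_ne

theorem zu_inv : ((R.zu⁻¹ : Eˣ) : E) = ζ ^ 4 := by
  rw [Units.val_inv_eq_inv_val]
  refine inv_eq_of_mul_eq_one_right ?_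
  show ζ * ζ ^ 4 = 1
  rw [← pow_succ']; exact R.pow

theorem coe_g1 : (R.g1 : Matrix (Fin 2) (Fin 2) E) = !![τ * ζ, τ * ζ ^ 4; τ, τ] := rfl

theorem M0_g1 : M0 τ * R.g1 = R.g1 * RankOne.eH R.zu := by
  have h2 : (2 : E) = 0 := CharTwo.two_eq_zero
  have hs := R.sum
  have h5 := R.pow
  apply Subtype.ext
  simp only [M0, Matrix.SpecialLinearGroup.coe_mul, RankOne.coe_eX, RankOne.coe_eN,
    RankOne.coe_eH, R.coe_g1, R.zu_inv, show (R.zu : E) = ζ from rfl, Matrix.mul_fin_two]
  ext i j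
  fin_cases i <;> fin_cases j <;> simp
  · linear_combination τ * ζ * hs - τ * h5 - τ * ζ ^ 2 * h2
  · linear_combination τ * ζ ^ 4 * hs - τ * h5 - τ * ζ ^ 8 * h2
  · linear_combination (-τ * ζ) * h2
  · linear_combination (-τ * ζ ^ 4) * h2

theorem frob_eX (t : E) : frobM E (RankOne.eX t) = RankOne.eX (t ^ 2) := by
  ext i j
  fin_cases i <;> fin_cases j <;> simp [frobM, RankOne.coe_eX, frobenius_def]

theorem frob_eN : frobM E RankOne.eN = RankOne.eN := by
  ext i j
  fin_cases i <;> fin_cases j <;> simp [frobM_apply, RankOne.coe_eN, CharTwo.neg_eq]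

theorem frob_eH (u : Eˣ) : frobM E (RankOne.eH u) = RankOne.eH (u ^ 2) := by
  ext i j
  fin_cases i <;> fin_cases j <;> simp [frobM, RankOne.coe_eH, frobenius_def, inv_pow]

theorem frob_frob_g1 : frobM E (frobM E R.g1) = R.g1 * RankOne.eN := by
  have h2 : (2 : E) = 0 := CharTwo.two_eq_zero
  have h4 : τ ^ 4 = τ := by linear_combination (τ ^ 2 - τ) * R.tau
  have h16 : ζ ^ 16 = ζ := by linear_combination (ζ ^ 11 + ζ ^ 6 + ζ) * R.pow
  ext i j
  fin_cases i <;> fin_cases j <;>
    simp [frobM_apply, R.coe_g1, RankOne.coe_eN, Matrix.SpecialLinearGroup.coe_mul,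
      mul_pow, ← pow_mul, h4, h16, CharTwo.neg_eq]

/-- The conjugating element. -/
noncomputable def g : GL chevE6.Idx E := hom0 E R.g1 * hom5 E (frobM E R.g1)

theorem g_mem : R.g ∈ chevE6.group E :=
  mul_mem (good_E6.hom_mem_group _ _) (good_E6.hom_mem_group _ _)

/-- The parameters of the element of the torus. -/
noncomputable def cc : Fin chevE6.rank → Eˣ :=
  Pi.mulSingle i0 R.zu * Pi.mulSingle i5 (R.zu ^ 2)

/-- The element of the torus. -/
noncomputable def t : GL chevE6.Idx E := E6Data.tab.hT E R.cc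

theorem xEl_g : el good_E6 τ (pairsW xPairs) * R.g = R.g * R.t := by
  obtain ⟨⟨e1, e2⟩, e3, e4⟩ := outer_eq
  have ns0 : hom0 E RankOne.eN = good_E6.full.ns E (i0 : ℕ) :=
    (good_E6.rankOne E i0).phi_eN
  have ns5 : hom5 E RankOne.eN = good_E6.full.ns E (i5 : ℕ) :=
    (good_E6.rankOne E i5).phi_eN
  have hx0 : ∀ v, hom0 E (RankOne.eX v) = good_E6.full.x 56 v := fun v =>
    ((good_E6.rankOne E i0).phi_eX v).trans (by rw [← e1]; rfl)
  have hx5 : ∀ v, hom5 E (RankOne.eX v) = good_E6.full.x 36 v := fun v =>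
    ((good_E6.rankOne E i5).phi_eX v).trans (by rw [← e3]; rfl)
  have ex : el good_E6 τ (pairsW xPairs) = hom0 E (M0 τ) * hom5 E (frobM E (M0 τ)) := by
    rw [el_eq good_E6 τ R.tau xSplit_eq, M0, map_mul (frobM E), frob_eX R, frob_eN R, map_mul,
      map_mul, ns0, ns5, ns_three good_E6 i0, ns_three good_E6 i5, e2, e1, e4, e3, hx0, hx5]
    simp [el, xSplit, mul_assoc]
  have ht : R.t = hom0 E (RankOne.eH R.zu) * hom5 E (RankOne.eH (R.zu ^ 2)) := by
    rw [t, cc, map_mul, good_E6.full.hT_single, good_E6.full.hT_single]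
    exact (congrArg₂ (· * ·) ((good_E6.rankOne E i0).phi_eH _)
      ((good_E6.rankOne E i5).phi_eH _)).symm
  rw [ex, ht, g, ← frob_eH R, mul_assoc, ← mul_assoc (hom5 E _) (hom0 E _),
    ← (hom_commute R.g1 (frobM E (M0 τ))).eq, mul_assoc (hom0 E R.g1) (hom5 E (frobM E R.g1)),
    ← mul_assoc (hom5 E (frobM E R.g1)) (hom0 E _),
    ← (hom_commute (RankOne.eH R.zu) (frobM E R.g1)).eq]
  simp only [← mul_assoc, ← map_mul]
  simp only [mul_assoc, ← map_mul, R.M0_g1]

theorem A_g {Φ : good_E6.Graph E} (S : Sq Φ) :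
    Φ.A R.g = R.g * good_E6.full.ns E (i0 : ℕ) := by
  obtain ⟨r0, r5⟩ := rho_i0 S
  rw [g, hom0, hom5, Φ.A_mul (good_E6.hom_mem_group _ _) (good_E6.hom_mem_group _ _),
    A_hom S, A_hom S, r0, r5, R.frob_frob_g1, map_mul,
    show (good_E6.rankOne E i0).hom RankOne.eN = good_E6.full.ns E (i0 : ℕ) from
      (good_E6.rankOne E i0).phi_eN, ← mul_assoc]
  congr 1
  exact (hom_commute _ _).eq.symm

theorem L2_g {l : GL chevE6.Idx E} (hl : l ∈ L2 E) : Commute l R.g := L2_commute_hom hl _ _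

end Roots

end Conj

end CfsgLib.Chev.E6Five
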