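import Cfsg.Agent.Chev.E6TwFive.Witness

/-!
The tables for the centraliser of an element of order five of `²E₆(2)`.
-/

set_option autoImplicit false

namespace CfsgLib.Chev.E6Five

open Cfsg.Lie Matrix Tab Quart

/-- The first fundamental root. -/
abbrev i0 : Fin chevE6.rank := ⟨0, by decide⟩

/-- The last fundamental root. -/
abbrev i5 : Fin chevE6.rank := ⟨5, by decide⟩

/-- The roots orthogonal to the first and the last fundamental root. -/
def A3 : List ℕ := [0, 1, 2, 24, 25, 32, 39, 46, 47, 69, 70, 71]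

/-- The four roots of the two fundamental subgroups of type `A₁`. -/
def outer : List ℕ := [56, 15, 36, 35]

/-- The properties of the roots of the subsystem. -/
def chkA3 : Bool :=
  (A3.all fun s => Nat.blt s 72 && Nat.beq (piN s) s && Nat.beq (E6Data.tab.reflT 0 s) s &&
    decide ((E6Data.tab.cart 0 s + 2 * E6Data.tab.cart 5 s) % 5 = 0) &&
    (outer.all fun r => E6Data.tab.chkCommute 2 s r)) &&
  ([56, 15].all fun r => [36, 35].all fun r' => E6Data.tab.chkCommute 2 r r') &&
  allBelow (fun s => !(Nat.ble 72 (Nat.mul 2 s)) ||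
    !(decide ((E6Data.tab.cart 0 s + 2 * E6Data.tab.cart 5 s) % 5 = 0)) || A3.contains s) 72

theorem chkA3_ok : chkA3 = true := by decide +kernel

theorem A3_spec {s : ℕ} (hs : s ∈ A3) :
    s < 72 ∧ piN s = s ∧ E6Data.tab.reflT 0 s = s ∧
      (E6Data.tab.cart 0 s + 2 * E6Data.tab.cart 5 s) % 5 = 0 ∧
      ∀ r ∈ outer, E6Data.tab.chkCommute 2 s r = true := by
  have h := chkA3_ok
  simp only [chkA3, Bool.and_eq_true, List.all_eq_true, decide_eq_true_eq, Nat.blt_eq,
    Nat.beq_eq] at h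
  obtain ⟨⟨⟨⟨h1, h2⟩, h3⟩, h4⟩, h5⟩ := h.1.1 s hs
  exact ⟨h1, h2, h3, h4, h5⟩

theorem outer_commute {r r' : ℕ} (hr : r = 56 ∨ r = 15) (hr' : r' = 36 ∨ r' = 35) :
    E6Data.tab.chkCommute 2 r r' = true := by
  have h := chkA3_ok
  simp only [chkA3, Bool.and_eq_true, List.all_eq_true] at h
  exact h.1.2 r (by simpa using hr) r' (by simpa using hr')

theorem mem_A3 {s : ℕ} (hs : IsPos chevE6 s)
    (h : (E6Data.tab.cart 0 s + 2 * E6Data.tab.cart 5 s) % 5 = 0) : s ∈ A3 := by
  have h' := chkA3_ok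
  simp only [chkA3, Bool.and_eq_true, allBelow_iff, Bool.or_eq_true, Bool.not_eq_true',
    decide_eq_false_iff_not, List.contains_iff_mem] at h'
  rcases h'.2 s hs.1 with (h1 | h1) | h1
  · have h2 : Nat.ble 72 (Nat.mul 2 s) = true := Nat.ble_eq_true_of_le hs.2
    exact absurd (h2.symm.trans h1) (by simp)
  · exact absurd h h1
  · exact h1

/-- The roots of the fundamental root subgroups in play. -/
theorem simple_vals : (chevE6.simple 0 = 56 ∧ negR chevE6 (chevE6.simple 0) = 15) ∧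
    (chevE6.simple 5 = 36 ∧ negR chevE6 (chevE6.simple 5) = 35) ∧
    (chevE6.simple 1 = 46 ∧ negR chevE6 (chevE6.simple 1) = 25) ∧
    (chevE6.simple 3 = 39 ∧ negR chevE6 (chevE6.simple 3) = 32) ∧
    chevE6.simple 2 = 42 ∧ negR chevE6 (chevE6.simple 2) = 29 := by
  decide +kernel

/-- The word carrying the highest root to a fundamental root. -/
def thetaW : List ℕ := [1, 3, 4, 5, 2, 3, 4, 1, 3, 0]

theorem thetaW_val : E6Data.tab.pwN thetaW 42 = 71 ∧ E6Data.tab.pwN thetaW 29 = 0 := by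
  decide +kernel

/-- The element of order five, with the letters of the two orbits separated. -/
def xSplit : List (ℕ × ℕ) :=
  [(56, 1), (56, 0), (15, 0), (56, 0), (36, 2), (36, 0), (35, 0), (36, 0)]

theorem xSplit_eq : chkEq E6Data.tab (pairsW xPairs) xSplit = true := by decide +kernel

/-- A linear form of the exponents of a torus element on a fundamental root. -/
def lin6 (b0 b1 b2 b3 b4 b5 : ℤ) (j : ℕ) : ℤ :=
  b0 * E6Data.tab.cart 0 (chevE6.simple j) + b1 * E6Data.tab.cart 1 (chevE6.simple j) +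
    b2 * E6Data.tab.cart 2 (chevE6.simple j) + b3 * E6Data.tab.cart 3 (chevE6.simple j) +
    b4 * E6Data.tab.cart 4 (chevE6.simple j) + b5 * E6Data.tab.cart 5 (chevE6.simple j)

/-- The congruences of a fixed element of order three. -/
def fixThree (b0 b1 b2 b3 b4 b5 : ℕ) : Bool :=
  !((List.range 6).all fun j => decide ((lin6 (-(2 * b5 : ℤ) + 2 * b4) (2 * b1) (2 * b4) (2 * b3)
      (2 * b2) (2 * b0) j - lin6 b0 b1 b2 b3 b4 b5 j) % 3 = 0)) ||
    (List.range 6).all fun j => decide (lin6 b0 b1 b2 b3 b4 b5 j % 3 = 0)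

/-- No nontrivial element of order three of the torus is fixed. -/
def chkThree : Bool :=
  allBelow (fun b0 => allBelow (fun b1 => allBelow (fun b2 => allBelow (fun b3 => allBelow
    (fun b4 => allBelow (fun b5 => fixThree b0 b1 b2 b3 b4 b5) 3) 3) 3) 3) 3) 3

theorem chkThree_ok : chkThree = true := by decide +kernel

theorem three_fixed {b : Fin 6 → ℕ} (hb : ∀ i, b i < 3)
    (h : ∀ j < 6, (lin6 (-(2 * b 5) + 2 * b 4) (2 * b 1) (2 * b 4) (2 * b 3) (2 * b 2) (2 * b 0) j -
      lin6 (b 0) (b 1) (b 2) (b 3) (b 4) (b 5) j) % 3 = 0) :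
    ∀ j < 6, lin6 (b 0) (b 1) (b 2) (b 3) (b 4) (b 5) j % 3 = 0 := by
  have hc := chkThree_ok
  rw [chkThree] at hc
  simp only [allBelow_iff] at hc
  have h0 := hc _ (hb 0) _ (hb 1) _ (hb 2) _ (hb 3) _ (hb 4) _ (hb 5)
  rw [fixThree, Bool.or_eq_true] at h0
  rcases h0 with h' | h'
  · rw [Bool.not_eq_true', List.all_eq_false] at h'
    obtain ⟨j, hj, hne⟩ := h'
    exact absurd (decide_eq_true (h j (List.mem_range.mp hj))) hne
  · intro j hj
    exact of_decide_eq_true (List.all_eq_true.mp h' j (List.mem_range.mpr hj))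

end CfsgLib.Chev.E6Five
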