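import Cfsg.Agent.Chev.E6TwFive.Base
import Cfsg.Agent.Chev.QuartMask

/-!
An element of order five of `²E₆(2)` and a conjugate which commutes with it.
-/

set_option autoImplicit false

namespace CfsgLib.Chev.E6Five

open Cfsg.Lie Matrix Tab E6Tw Quart

/-- The roots of the generators. -/
def genRoots : List ℕ := [46, 25, 39, 32, 56, 15, 42, 29]

/-- The word of the root element of an orbit. -/
def pairW (p : ℕ × ℕ) : List (ℕ × ℕ) :=
  cond (Nat.beq (piN p.1) p.1) [(p.1, p.2)] [p, (piN p.1, 2 * p.2 % 3)]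

/-- The word of a product of root elements of orbits. -/
def pairsW (L : List (ℕ × ℕ)) : List (ℕ × ℕ) := L.flatMap pairW

/-- The element of order five. -/
def xPairs : List (ℕ × ℕ) := [(56, 1), (56, 0), (15, 0), (56, 0)]

/-- The element of order five of `L₄(2)`. -/
def yPairs : List (ℕ × ℕ) := [(0, 0), (1, 0), (24, 0), (39, 0), (32, 0), (71, 0), (0, 0)]

/-- The conjugating element. -/
def gPairs : List (ℕ × ℕ) := [(6, 0), (26, 1), (65, 0), (62, 0), (59, 0), (19, 1), (6, 0)]

/-- The word of the longest element of the Weyl group of `²E₆`. -/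
def w0Toks : List ℕ :=
  [0, 1, 0, 2, 1, 0, 2, 1, 2, 3, 2, 1, 0, 2, 1, 2, 3, 2, 1, 0, 2, 1, 2, 3]

/-- The fundamental roots in an orbit. -/
def tokOrb : ℕ → List (Fin chevE6.rank)
  | 0 => [(1 : Fin 6)]
  | 1 => [(3 : Fin 6)]
  | 2 => [(2 : Fin 6), (4 : Fin 6)]
  | _ => [(0 : Fin 6), (5 : Fin 6)]

/-- The representative of the longest element. -/
def w0List : List (Fin chevE6.rank) := w0Toks.flatMap tokOrb

/-- The product of orbit elements giving the representative of a generator of the Weyl group. -/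
def tokPairs : ℕ → List (ℕ × ℕ)
  | 0 => [(46, 0), (25, 0), (46, 0)]
  | 1 => [(39, 0), (32, 0), (39, 0)]
  | 2 => [(42, 0), (29, 0), (42, 0)]
  | _ => [(56, 0), (15, 0), (56, 0)]

/-- The word in root elements of the representative of a generator of the Weyl group. -/
def tokWord (j : ℕ) : List (ℕ × ℕ) :=
  (tokOrb j).flatMap fun (i : Fin chevE6.rank) =>
    [(chevE6.simple i, 0), (negR chevE6 (chevE6.simple i), 0), (chevE6.simple i, 0)]

theorem tok_eq : ∀ j : Fin 4,
    chkEq E6Data.tab (tokWord j.val) (pairsW (tokPairs j.val)) = true := by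
  decide +kernel

theorem tokPairs_gen : ∀ j : Fin 4, ∀ p ∈ tokPairs j.val, p.1 ∈ genRoots ∧ p.2 = 0 := by
  decide

/-- The longest element turns negative roots positive and commutes with the graph map. -/
def chkW0 : Bool :=
  allBelow (fun r =>
    let s := E6Data.tab.pwN (w0List.map Fin.val) r
    Nat.beq (E6Data.tab.pwN (w0List.map Fin.val) s) r &&
      Nat.beq (piN s) (E6Data.tab.pwN (w0List.map Fin.val) (piN r)) &&
      (Nat.ble 72 (Nat.mul 2 r) || Nat.ble 72 (Nat.mul 2 s))) 72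

theorem chkW0_ok : chkW0 = true := by decide +kernel

variable {K : Type*} [Field K] [Fintype K] [CharP K 2] (C : Ctx K 2)

theorem tau_ne_one {τ : K} (hτ : τ ^ 2 + τ + 1 = 0) : τ ≠ 1 := fun e => by
  rw [e] at hτ
  exact one_ne_zero (α := K) (by linear_combination hτ - CharTwo.two_eq_zero (R := K))

theorem tau_cube {τ : K} (hτ : τ ^ 2 + τ + 1 = 0) : τ ^ 3 = 1 := by
  linear_combination (τ - 1) * hτ

omit [Fintype K] in
theorem el_pairW {τ : K} (hτ : τ ^ 2 + τ + 1 = 0) (p : ℕ × ℕ) :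
    el good_E6 τ (pairW p) = pairEl p.1 (τ ^ p.2) := by
  have h3 : τ ^ (2 * p.2 % 3) = (τ ^ p.2) ^ 2 := by
    rw [← pow_mul, mul_comm p.2 2]
    exact (pow_eq_pow_mod _ (by linear_combination (τ - 1) * hτ)).symm
  unfold pairW pairEl
  by_cases h : piN p.1 = p.1
  · rw [Tab.beq_true h, cond_true, if_pos h]; simp [el]
  · rw [Tab.beq_false h, cond_false, if_neg h]; simp [el, h3]

include C in
theorem pairEl_mem_G1 {r : ℕ} (hr : r < 72) (t : K) (h1 : piN r = r → t ^ 2 = t)
    (hpos : 72 ≤ 2 * r) : pairEl r t ∈ C.Z.G1 := by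
  refine C.Z.U1_le ⟨(sq_of_ctx C).pairEl_fix hr (C.pow_qq t) h1, ?_⟩
  have hp : IsPos chevE6 r := ⟨hr, hpos⟩
  have hq : IsPos chevE6 (piN r) := by
    have := (C.Φ.pos ⟨r, hr⟩).mpr hp
    rwa [(sq_of_ctx C).hπ] at this
  rw [good_E6.posUnipotent_eq, pairEl]
  split_ifs
  · exact good_E6.x_mem_US hp _
  · exact mul_mem (good_E6.x_mem_US hp _) (good_E6.x_mem_US hq _)

omit [CharP K 2] in
include C in
theorem exists_quart : ∃ τ : K, τ ^ 2 + τ + 1 = 0 := by
  classical
  obtain ⟨τ, -, hτ⟩ := Finset.exists_mem_notMem_of_card_lt_card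
    (s := ({0, 1} : Finset K)) (t := Finset.univ)
    (lt_of_le_of_lt Finset.card_le_two (by rw [Finset.card_univ, C.hK]; norm_num))
  simp only [Finset.mem_insert, Finset.mem_singleton, not_or] at hτ
  have h3 : τ ^ 3 = 1 := by
    have := FiniteField.pow_card_sub_one_eq_one τ hτ.1
    rwa [C.hK] at this
  exact ⟨τ, mul_left_cancel₀ (sub_ne_zero.mpr hτ.2) (by linear_combination h3)⟩

theorem genRoots_pi : (piN 46 = 46 ∧ piN 25 = 25 ∧ piN 39 = 39 ∧ piN 32 = 32) ∧
    piN 56 = 36 ∧ piN 15 = 35 ∧ piN 42 = 37 ∧ piN 29 = 34 := by decide +kernel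

include C in
theorem pairEl_gen {r : ℕ} (hr : r ∈ genRoots) (t : K) (h1 : piN r = r → t ^ 2 = t) :
    pairEl r t ∈ C.Z.G1 := by
  have wc : ∀ w : List (ℕ × K), w ∈ Cfsg.Lie.e6Words K 2 →
      (w.map fun p => good_E6.full.x p.1 p.2).prod ∈ C.Z.G1 := by
    intro w hw
    rw [C.grp_eq]
    exact Subgroup.subset_closure ⟨w, hw, (good_E6.full.coe_word w)⟩
  obtain ⟨⟨e1, e2, e3, e4⟩, e5, e6, e7, e8⟩ := genRoots_pi
  simp only [genRoots, List.mem_cons, List.not_mem_nil, or_false] at hr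
  rcases hr with rfl | rfl | rfl | rfl | rfl | rfl | rfl | rfl
  all_goals unfold pairEl
  · rw [if_pos e1]; simpa using wc [(46, t)] (Or.inl ⟨t, h1 e1, 46, by decide, rfl⟩)
  · rw [if_pos e2]; simpa using wc [(25, t)] (Or.inl ⟨t, h1 e2, 25, by decide, rfl⟩)
  · rw [if_pos e3]; simpa using wc [(39, t)] (Or.inl ⟨t, h1 e3, 39, by decide, rfl⟩)
  · rw [if_pos e4]; simpa using wc [(32, t)] (Or.inl ⟨t, h1 e4, 32, by decide, rfl⟩)
  · rw [e5, if_neg (by norm_num)]
    simpa using wc [(56, t), (36, t ^ 2)] (Or.inr ⟨t, (56, 36), by decide, rfl⟩)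
  · rw [e6, if_neg (by norm_num)]
    simpa using wc [(15, t), (35, t ^ 2)] (Or.inr ⟨t, (15, 35), by decide, rfl⟩)
  · rw [e7, if_neg (by norm_num)]
    simpa using wc [(42, t), (37, t ^ 2)] (Or.inr ⟨t, (42, 37), by decide, rfl⟩)
  · rw [e8, if_neg (by norm_num)]
    simpa using wc [(29, t), (34, t ^ 2)] (Or.inr ⟨t, (29, 34), by decide, rfl⟩)

omit [Fintype K] in
theorem el_pairsW {τ : K} (hτ : τ ^ 2 + τ + 1 = 0) (L : List (ℕ × ℕ)) :
    el good_E6 τ (pairsW L) = (L.map fun p => pairEl p.1 (τ ^ p.2)).prod := by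
  induction L with
  | nil => simp [pairsW, el]
  | cons p L ih =>
    rw [pairsW, List.flatMap_cons, el_append, el_pairW hτ, ← pairsW, ih, List.map_cons,
      List.prod_cons]

include C in
theorem nw_w0_mem : good_E6.full.nw K w0List ∈ C.Z.G1 := by
  obtain ⟨τ, hτ⟩ : ∃ τ : K, τ ^ 2 + τ + 1 = 0 := exists_quart C
  have hmem : ∀ j : Fin 4, good_E6.full.nw K (tokOrb j.val) ∈ C.Z.G1 := by
    intro j
    have e : good_E6.full.nw K (tokOrb j.val) = el good_E6 τ (tokWord j.val) := by
      have key : ∀ L : List (Fin chevE6.rank), good_E6.full.nw K L = el good_E6 τ (L.flatMap fun (i : Fin chevE6.rank) =>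
          [(chevE6.simple i, 0), (negR chevE6 (chevE6.simple i), 0), (chevE6.simple i, 0)]) := by
        intro L
        induction L with
        | nil => simp [el, Full.nw]
        | cons i L ih =>
          rw [good_E6.nw_cons, ih, List.flatMap_cons, el_append, ns_three good_E6 i]
          simp [el, mul_assoc]
      exact key _
    rw [e, el_eq good_E6 τ hτ (tok_eq j), el_pairsW hτ]
    refine list_prod_mem fun g hg => ?_
    obtain ⟨p, hp, rfl⟩ := List.mem_map.mp hg
    have hk := tokPairs_gen j p hp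
    rw [hk.2, pow_zero]
    exact pairEl_gen C hk.1 1 fun _ => one_pow 2
  have key : ∀ L : List ℕ, (∀ j ∈ L, j < 4) →
      good_E6.full.nw K (L.flatMap tokOrb) ∈ C.Z.G1 := by
    intro L
    induction L with
    | nil => intro _; simp [Full.nw, one_mem]
    | cons j L ih =>
      intro h
      rw [List.flatMap_cons, good_E6.nw_append]
      exact mul_mem (hmem ⟨j, h j (List.mem_cons_self ..)⟩) (ih fun a ha => h a (List.mem_cons_of_mem _ ha))
  exact key _ (by decide)

include C in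
/-- The root elements of the orbits lie in the twisted group. -/
theorem pairEl_mem {r : ℕ} (hr : r < 72) (t : K) (h1 : piN r = r → t ^ 2 = t) :
    pairEl r t ∈ C.Z.G1 := by
  by_cases hpos : 72 ≤ 2 * r
  · exact pairEl_mem_G1 C hr t h1 hpos
  have h := chkW0_ok
  simp only [chkW0, allBelow_iff, Bool.and_eq_true, Bool.or_eq_true, Nat.beq_eq] at h
  obtain ⟨⟨e1, e2⟩, e3⟩ := h r hr
  set s := E6Data.tab.pwN (w0List.map Fin.val) r with hs
  have hlt : s < 72 := good_E6.pwN_lt (by simp) hr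
  have hspos : 72 ≤ 2 * s := by
    rcases e3 with h | h
    · exact absurd (Nat.le_of_ble_eq_true h) hpos
    · exact Nat.le_of_ble_eq_true h
  have hinv : piN s = s → piN r = r := fun e => by
    have hl : piN r < chevE6.nroots := (orbit_spec hr).2.1
    have e4 : E6Data.tab.pwN (w0List.map Fin.val) (piN r) =
        E6Data.tab.pwN (w0List.map Fin.val) r := e2.symm.trans e
    have h5 := ((h (piN r) hl).1).1
    rw [e4, e1] at h5
    exact h5.symm
  have hm := pairEl_mem_G1 C hlt t (fun e => h1 (hinv e)) hspos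
  have hc : good_E6.full.nw K w0List * pairEl s t * (good_E6.full.nw K w0List)⁻¹ = pairEl r t := by
    have c1 : ∀ v, good_E6.full.nw K w0List * good_E6.full.x s v *
        (good_E6.full.nw K w0List)⁻¹ = good_E6.full.x r v := fun v => by
      rw [nw_conj good_E6 _ hlt v, e1]
    have c2 : ∀ v, good_E6.full.nw K w0List * good_E6.full.x (piN s) v *
        (good_E6.full.nw K w0List)⁻¹ = good_E6.full.x (piN r) v := fun v => by
      rw [nw_conj good_E6 _ (orbit_spec hlt).2.1 v, e2,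
        ((h (piN r) (orbit_spec hr).2.1).1).1]
    unfold pairEl
    by_cases hps : piN s = s
    · rw [if_pos hps, if_pos (hinv hps), c1]
    · have hpr : piN r ≠ r := fun e => hps (by rw [e2, e])
      rw [if_neg hps, if_neg hpr, ← c1 t, ← c2 (t ^ 2)]; group
  rw [← hc]
  exact mul_mem (mul_mem (nw_w0_mem C) hm) (inv_mem (nw_w0_mem C))

include C in
theorem pairs_mem {τ : K} (hτ : τ ^ 2 + τ + 1 = 0) {L : List (ℕ × ℕ)}
    (hL : ∀ p ∈ L, p.1 < 72 ∧ (piN p.1 = p.1 → p.2 = 0)) : el good_E6 τ (pairsW L) ∈ C.Z.G1 := by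
  rw [el_pairsW hτ]
  refine list_prod_mem fun g hg => ?_
  obtain ⟨p, hp, rfl⟩ := List.mem_map.mp hg
  obtain ⟨h1, h2⟩ := hL p hp
  exact pairEl_mem C h1 _ fun e => by rw [h2 e]; simp

/-- The computations with the witness. -/
theorem witness_chk :
    chkEq E6Data.tab (pairsW (xPairs ++ xPairs ++ xPairs ++ xPairs ++ xPairs)) [] = true ∧
    chkEq E6Data.tab (pairsW (gPairs ++ xPairs)) (pairsW (yPairs ++ gPairs)) = true ∧
    chkEq E6Data.tab (pairsW (xPairs ++ yPairs)) (pairsW (yPairs ++ xPairs)) = true ∧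
    chkNe E6Data.tab (pairsW xPairs) [] 74 72 = true ∧
    chkNe E6Data.tab (pairsW yPairs) [] 73 72 = true ∧
    chkNe E6Data.tab (pairsW yPairs) (pairsW xPairs) 73 72 = true ∧
    chkNe E6Data.tab (pairsW yPairs) (pairsW (xPairs ++ xPairs)) 73 72 = true ∧
    chkNe E6Data.tab (pairsW yPairs) (pairsW (xPairs ++ xPairs ++ xPairs)) 73 72 = true ∧
    chkNe E6Data.tab (pairsW yPairs) (pairsW (xPairs ++ xPairs ++ xPairs ++ xPairs)) 73 72 = true := by
  decide +kernel

end CfsgLib.Chev.E6Five
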